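import Mathlib
import Cfsg.Agent.Lib.Involutions.Basic

/-!
Conjugation-closed sets of involutions in which two non-commuting members have a product of the fixed
odd prime order `p`, and the counting and arithmetic facts used on them.
-/

set_option autoImplicit false

namespace CfsgLib.RankThreeInv

open CfsgLib.Involutions

variable {G : Type*} [Group G] {p : ℕ} {X : Set G}

/-- A conjugation-closed set of involutions: two members commute or have product of order `p`. -/
structure PSet (p : ℕ) (X : Set G) : Prop where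
  prime : p.Prime
  odd : Odd p
  inv : ∀ x ∈ X, orderOf x = 2
  conj : ∀ g : G, ∀ x ∈ X, g * x * g⁻¹ ∈ X
  ord : ∀ x ∈ X, ∀ y ∈ X, Commute x y ∨ orderOf (x * y) = p

theorem conj_pow_eq {u v : G} (hu : orderOf u = 2) (hv : orderOf v = 2) {m : ℕ}
    (h : (u * v) ^ (2 * m + 1) = 1) : (u * v) ^ m * u * ((u * v) ^ m)⁻¹ = v := by
  have hc := conj_by_zpow hu hv (m : ℤ) 0
  rw [zpow_zero, one_mul, zpow_natCast, add_zero] at hc
  rw [hc]
  have h2 : (u * v) ^ (2 * (m : ℤ)) = (u * v)⁻¹ := by
    apply eq_inv_of_mul_eq_one_left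
    rw [← zpow_add_one]
    exact_mod_cast h
  rw [h2, mul_inv_rev, inv_eq_self_of_involution hu, inv_eq_self_of_involution hv, mul_assoc,
    mul_self_eq_one hu, mul_one]

/-- Elements killed by the same odd exponent and having equal squares are equal. -/
theorem eq_of_sq_eq {n : ℕ} (hn : Odd n) {s t : G} (hs : s ^ n = 1) (ht : t ^ n = 1)
    (h : s * s = t * t) : s = t := by
  obtain ⟨m, rfl⟩ := hn
  have key : ∀ a : G, a ^ (2 * m + 1) = 1 → a = (a * a) ^ (m + 1) := fun a ha => by
    rw [← pow_two, ← pow_mul, show 2 * (m + 1) = 2 * m + 1 + 1 by ring, pow_succ, ha, one_mul]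
  rw [key s hs, key t ht, h]

theorem commute_conj {a b : G} (g : G) (h : Commute a b) :
    Commute (g * a * g⁻¹) (g * b * g⁻¹) :=
  (Commute.conj_iff g).2 h

theorem commute_of_mul_sq {a b : G} (ha : a * a = 1) (hb : b * b = 1) (h : (a * b) * (a * b) = 1) :
    Commute a b := by
  have h1 := eq_inv_of_mul_eq_one_left h
  rwa [mul_inv_rev, inv_eq_of_mul_eq_one_right ha, inv_eq_of_mul_eq_one_right hb] at h1

namespace PSet

theorem mul_self (h : PSet p X) {x : G} (hx : x ∈ X) : x * x = 1 := mul_self_eq_one (h.inv x hx)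

theorem inv_eq (h : PSet p X) {x : G} (hx : x ∈ X) : x⁻¹ = x :=
  inv_eq_self_of_involution (h.inv x hx)

theorem ne_one (h : PSet p X) {x : G} (hx : x ∈ X) : x ≠ 1 := ne_one_of_involution (h.inv x hx)

theorem mul_self_mul (h : PSet p X) {x : G} (hx : x ∈ X) (g : G) : x * (x * g) = g := by
  rw [← mul_assoc, h.mul_self hx, one_mul]

theorem conj_self (h : PSet p X) {x y : G} (hx : x ∈ X) (hy : y ∈ X) : x * y * x ∈ X := by
  have := h.conj x y hy
  rwa [h.inv_eq hx] at this

theorem order (h : PSet p X) {x y : G} (hx : x ∈ X) (hy : y ∈ X) (hc : ¬ Commute x y) :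
    orderOf (x * y) = p :=
  (h.ord x hx y hy).resolve_left hc

theorem pow_eq_one (h : PSet p X) {x y : G} (hx : x ∈ X) (hy : y ∈ X) (hc : ¬ Commute x y) :
    (x * y) ^ p = 1 := h.order hx hy hc ▸ pow_orderOf_eq_one _

theorem ne_two (h : PSet p X) : p ≠ 2 := by
  rintro hp; exact (Nat.not_even_iff_odd.2 h.odd) (hp ▸ even_two)

theorem three_le (h : PSet p X) : 3 ≤ p := by
  have := h.prime.two_le; have := h.ne_two; omega

theorem not_sq_of_order (h : PSet p X) {g : G} (hg : orderOf g = p) : g * g ≠ 1 := by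
  intro hs
  have := orderOf_dvd_of_pow_eq_one (x := g) (n := 2) (by rw [pow_two]; exact hs)
  rw [hg] at this
  exact h.ne_two ((Nat.prime_dvd_prime_iff_eq h.prime Nat.prime_two).1 this)

theorem not_four_of_order (h : PSet p X) {g : G} (hg : orderOf g = p) : g ^ 4 ≠ 1 := by
  intro hs
  have := orderOf_dvd_of_pow_eq_one hs
  rw [hg, show (4 : ℕ) = 2 ^ 2 by norm_num] at this
  exact h.ne_two ((Nat.prime_dvd_prime_iff_eq h.prime Nat.prime_two).1 (h.prime.dvd_of_dvd_pow this))

theorem isConj (h : PSet p X) {x y : G} (hx : x ∈ X) (hy : y ∈ X) (hc : ¬ Commute x y) :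
    IsConj x y :=
  isConj_of_odd_order (h.inv x hx) (h.inv y hy) (by rw [h.order hx hy hc]; exact h.odd)

/-- A point is carried to another point of its line by exactly one member of the set. -/
theorem eq_of_conj_eq (h : PSet p X) {u b c : G} (hu : u ∈ X) (hb : b ∈ X) (hc : c ∈ X)
    (hub : ¬ Commute u b) (he : b * u * b = c * u * c) : b = c := by
  have huc : ¬ Commute u c := fun hh => hub (by
    have h1 : b * u * b = u := by
      rw [he, ← hh.eq, mul_assoc, h.mul_self hc, mul_one]
    have h2 : b * u * b * b = u * b := by rw [h1]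
    rw [mul_assoc (b * u), h.mul_self hb, mul_one] at h2
    exact h2.symm)
  have := eq_of_sq_eq h.odd (h.pow_eq_one hu hb hub) (h.pow_eq_one hu hc huc)
    (by rw [show u * b * (u * b) = u * (b * u * b) by group, he]; group)
  exact mul_left_cancel this

theorem exists_mid (h : PSet p X) {u v : G} (hu : u ∈ X) (hv : v ∈ X) (hc : ¬ Commute u v) :
    ∃ m ∈ X, m * u * m = v := by
  obtain ⟨k, hk⟩ := h.odd
  have hp : (u * v) ^ (2 * k + 1) = 1 := hk ▸ h.pow_eq_one hu hv hc
  set r := u * v
  have hi := inverts_pow (left_inverts_prod (h.inv u hu) (h.inv v hv)) k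
  rw [h.inv_eq hu] at hi
  have hm : (r ^ k * u) * u * (r ^ k * u) = v := by
    calc (r ^ k * u) * u * (r ^ k * u) = r ^ k * (u * u) * r ^ k * u := by group
      _ = r ^ k * r ^ k * u := by rw [h.mul_self hu, mul_one]
      _ = r ^ k * u * (u * r ^ k * u) := by
          rw [show r ^ k * u * (u * r ^ k * u) = r ^ k * (u * u) * r ^ k * u by group,
            h.mul_self hu, mul_one]
      _ = v := by rw [hi]; exact conj_pow_eq (h.inv u hu) (h.inv v hv) hp
  refine ⟨r ^ k * u, ?_, hm⟩
  -- the midpoint is a conjugate of `u` or of `v`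
  obtain ⟨j, hj | hj⟩ : ∃ j : ℕ, k = 2 * j ∨ k = 2 * j + 1 := ⟨k / 2, by omega⟩
  · have h1 := conj_by_zpow (h.inv u hu) (h.inv v hv) (j : ℤ) 0
    rw [zpow_zero, one_mul, zpow_natCast, add_zero] at h1
    have h2 : r ^ k = r ^ (2 * (j : ℤ)) := by rw [hj]; exact_mod_cast (zpow_natCast r (2 * j)).symm
    rw [h2, ← h1]
    exact h.conj _ u hu
  · have h1 := conj_by_zpow (h.inv u hu) (h.inv v hv) ((j : ℤ) + 1) (-1)
    have hv' : r ^ (-1 : ℤ) * u = v := by
      rw [zpow_neg_one, mul_inv_rev, h.inv_eq hu, h.inv_eq hv, mul_assoc, h.mul_self hu, mul_one]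
    rw [hv'] at h1
    have h2 : r ^ k = r ^ (2 * ((j : ℤ) + 1) + -1) := by
      rw [show 2 * ((j : ℤ) + 1) + -1 = ((k : ℕ) : ℤ) by push_cast [hj]; ring, zpow_natCast]
    rw [h2, ← h1]
    exact h.conj _ v hv

theorem not_commute_mid (h : PSet p X) {u v m : G} (hm : m ∈ X) (hc : ¬ Commute u v)
    (he : m * u * m = v) : ¬ Commute u m := fun hh => hc (by
  rw [← he, ← hh.eq, mul_assoc, h.mul_self hm, mul_one])

theorem mid_unique (h : PSet p X) {u v m m' : G} (hu : u ∈ X) (hm : m ∈ X) (hm' : m' ∈ X)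
    (hc : ¬ Commute u v) (he : m * u * m = v) (he' : m' * u * m' = v) : m = m' :=
  h.eq_of_conj_eq hu hm hm' (h.not_commute_mid hm hc he) (he.trans he'.symm)

/-- An element exchanging two points fixes their midpoint. -/
theorem commute_mid (h : PSet p X) {u v m g : G} (hu : u ∈ X) (hm : m ∈ X)
    (hc : ¬ Commute u v) (he : m * u * m = v) (hgu : g * u * g⁻¹ = v) (hgv : g * v * g⁻¹ = u) :
    Commute g m := by
  have hm' := h.conj g m hm
  have h1 : (g * m * g⁻¹) * v * (g * m * g⁻¹) = u := by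
    conv_rhs => rw [← hgv, ← he]
    rw [← hgu]
    group
  have h2 : (g * m * g⁻¹) * u * (g * m * g⁻¹) = v := by
    conv_lhs => rw [← h1]
    calc _ = (g * m * g⁻¹ * (g * m * g⁻¹)) * v * (g * m * g⁻¹ * (g * m * g⁻¹)) := by group
      _ = v := by rw [h.mul_self hm', one_mul, mul_one]
  have := h.mid_unique hu hm' hm hc h2 he
  exact mul_inv_eq_iff_eq_mul.1 this

/-- The members on a commuting triple `a`, `b`, `a * b`. -/
theorem commute_of_triangle (h : PSet p X) {a b v : G} (ha : a ∈ X) (hb : b ∈ X) (hab : Commute a b)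
    (hc : a * b ∈ X) (hv : v ∈ X) (hva : Commute v a) : Commute v b := by
  by_contra hvb
  have e1 : a * v * a = v := by rw [← hva.eq, mul_assoc, h.mul_self ha, mul_one]
  have e2 : b * v * b = (a * b) * v * (a * b) := by
    calc b * v * b = b * (a * v * a) * b := by rw [e1]
      _ = (b * a) * v * (a * b) := by group
      _ = (a * b) * v * (a * b) := by rw [← hab.eq]
  exact h.ne_one ha (mul_eq_right.1 (h.eq_of_conj_eq hv hb hc hvb e2).symm)

/-- The intersection with a subgroup. -/
theorem comap (h : PSet p X) (H : Subgroup G) : PSet p (H.subtype ⁻¹' X) where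
  prime := h.prime
  odd := h.odd
  inv x hx := by rw [← Subgroup.orderOf_coe]; exact h.inv _ hx
  conj g x hx := h.conj g x hx
  ord x hx y hy := (h.ord _ hx _ hy).imp (fun hh => Subtype.ext hh.eq) fun hh => by
    rw [← Subgroup.orderOf_coe]; exact hh

/-- The image under a surjective homomorphism, the neutral element removed. -/
theorem map (h : PSet p X) {H : Type*} [Group H] (f : G →* H) (hf : Function.Surjective f) :
    PSet p (f '' X \ {1}) where
  prime := h.prime
  odd := h.odd
  inv := by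
    rintro _ ⟨⟨x, hx, rfl⟩, hx1⟩
    refine orderOf_eq_two_iff_mul.2 ⟨hx1, ?_⟩
    rw [← map_mul, h.mul_self hx, map_one]
  conj := by
    rintro g _ ⟨⟨x, hx, rfl⟩, hx1⟩
    obtain ⟨g, rfl⟩ := hf g
    refine ⟨⟨g * x * g⁻¹, h.conj g x hx, by simp⟩, fun hh => hx1 ?_⟩
    exact (conj_eq_one_iff (a := f g)).1 hh
  ord := by
    rintro _ ⟨⟨x, hx, rfl⟩, -⟩ _ ⟨⟨y, hy, rfl⟩, -⟩
    rcases h.ord x hx y hy with hc | ho
    · exact Or.inl (hc.map f)
    · have hd := orderOf_map_dvd f (x * y)
      rw [ho, map_mul] at hd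
      rcases (Nat.dvd_prime h.prime).1 hd with h1 | h1
      · refine Or.inl ?_
        rw [orderOf_eq_one_iff] at h1
        exact commute_of_mul_sq (by rw [← map_mul, h.mul_self hx, map_one])
          (by rw [← map_mul, h.mul_self hy, map_one]) (by rw [h1, one_mul])
      · exact Or.inr h1

theorem not_commute_map (h : PSet p X) {H : Type*} [Group H] (f : G →* H) {x y : G} (hx : x ∈ X)
    (hy : y ∈ X) (hc : ¬ Commute x y) (h1 : f (x * y) ≠ 1) : ¬ Commute (f x) (f y) := by
  intro hh
  have hd := orderOf_map_dvd f (x * y)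
  rw [h.order hx hy hc] at hd
  rcases (Nat.dvd_prime h.prime).1 hd with h2 | h2
  · exact h1 (orderOf_eq_one_iff.1 h2)
  · refine (show (f (x * y)) * f (x * y) ≠ 1 from fun hs => ?_) ?_
    · have := orderOf_dvd_of_pow_eq_one (x := f (x * y)) (n := 2) (by rw [pow_two]; exact hs)
      rw [h2] at this
      exact h.ne_two ((Nat.prime_dvd_prime_iff_eq h.prime Nat.prime_two).1 this)
    rw [map_mul, mul_assoc, ← mul_assoc (f y), ← hh.eq, mul_assoc (f x), ← map_mul f y,
      h.mul_self hy, map_one, mul_one, ← map_mul, h.mul_self hx, map_one]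

end PSet

end CfsgLib.RankThreeInv
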