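import Mathlib
import Cfsg.Agent.Lib.RankThreeInv.Basic
import Cfsg.Agent.Lib.Involutions.BrauerSuzuki
import Cfsg.Agent.Lib.PCore.Basic

/-!
A set of involutions closed under mutual conjugation, all of whose products are of the odd prime order
`p`, has prime power size; also the little arithmetic needed with it.
-/

set_option autoImplicit false

namespace CfsgLib.RankThreeInv

open CfsgLib.Involutions Cfsg
open scoped Pointwise

variable {K : Type*} [Group K] [Finite K] {p : ℕ}

theorem ncard_pow_of_generates (hp : p.Prime) (hodd : Odd p) {W : Set K} (hne : W.Nonempty)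
    (hgen : Subgroup.closure W = ⊤) (hinv : ∀ w ∈ W, orderOf w = 2)
    (hpair : ∀ v ∈ W, ∀ w ∈ W, v ≠ w → orderOf (v * w) = p)
    (hconj : ∀ v ∈ W, ∀ w ∈ W, v * w * v ∈ W) : ∃ k, W.ncard = p ^ k := by
  classical
  obtain ⟨w, hw⟩ := hne
  have hall : ∀ g : K, ∀ x ∈ W, g * x * g⁻¹ ∈ W := by
    intro g
    have hg : g ∈ Subgroup.closure W := hgen ▸ Subgroup.mem_top g
    induction hg using Subgroup.closure_induction_left with
    | one => intro x hx; simpa using hx
    | mul_left a ha y _ ih =>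
      intro x hx
      have := hconj a ha _ (ih x hx)
      convert this using 1
      rw [mul_inv_rev, inv_eq_self_of_involution (hinv a ha)]; group
    | inv_mul_cancel a ha y _ ih =>
      intro x hx
      have := hconj a ha _ (ih x hx)
      convert this using 1
      rw [mul_inv_rev, inv_inv, inv_eq_self_of_involution (hinv a ha)]; group
  have hiso : IsIsolatedInvolution w := ⟨hinv w hw, fun g hc => by
    by_contra hne
    have h2 := hpair w hw _ (hall g w hw) (Ne.symm hne)
    have h3 : (w * (g * w * g⁻¹)) ^ 2 = 1 := by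
      rw [hc.mul_pow, pow_two, pow_two, mul_self_eq_one (hinv w hw),
        mul_self_eq_one (hinv _ (hall g w hw)), one_mul]
    have h4 := orderOf_dvd_of_pow_eq_one h3
    rw [h2] at h4
    exact absurd ((Nat.prime_dvd_prime_iff_eq hp Nat.prime_two).1 h4)
      (fun h5 => (Nat.not_even_iff_odd.2 hodd) (h5 ▸ even_two))⟩
  have hz := CfsgLib.Involutions.zstar K w hiso
  set O := pPrimeCore 2 K
  have : O.Normal := inferInstance
  have : Fact (Nat.Prime 2) := ⟨Nat.prime_two⟩
  have hOodd : Odd (Nat.card O) := by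
    rw [← Nat.not_even_iff_odd, even_iff_two_dvd]
    exact CfsgLib.PCore.not_dvd_card_pPrimeCore
  -- odd elements inverted by `w`
  have hinvp : ∀ t : K, t ∈ O → w * t * w⁻¹ = t⁻¹ → t ^ p = 1 := by
    intro t ht hti
    have hto : Odd (orderOf t) := hOodd.of_dvd_nat (Subgroup.orderOf_dvd_natCard _ ht)
    obtain ⟨h, hh, hh2, -⟩ := Isolated.exists_sqrt_of_odd hto
    have he := Isolated.conj_eq_sq_mul (Isolated.inv_of_mem_zpowers hti hh)
    rw [hh2] at he
    have hmem := hall h w hw
    rw [he] at hmem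
    by_cases h1 : t = 1
    · rw [h1, one_pow]
    have := hpair _ hmem w hw (fun h2 => h1 (mul_eq_right.1 h2))
    rw [mul_assoc, mul_self_eq_one (hinv w hw), mul_one] at this
    exact this ▸ pow_orderOf_eq_one t
  set C : Subgroup O := (Subgroup.centralizer ({w} : Set K)).subgroupOf O
  have hmemC : ∀ o : O, o ∈ C ↔ (o : K) * w = w * o := fun o => by
    rw [Subgroup.mem_subgroupOf, Subgroup.mem_centralizer_singleton_iff]
  have hcard : W.ncard = C.index := by
    rw [← Nat.card_coe_set_eq, Subgroup.index]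
    refine (Nat.card_congr (Equiv.ofBijective (α := O ⧸ C) (β := W)
      (Quotient.lift (fun o : O => (⟨(o : K) * w * (o : K)⁻¹, hall _ w hw⟩ : W)) ?_) ⟨?_, ?_⟩)).symm
    · intro a b hab
      apply Subtype.ext
      have h1 : a⁻¹ * b ∈ C := QuotientGroup.leftRel_apply.1 hab
      rw [hmemC] at h1
      push_cast at h1
      calc (a : K) * w * (a : K)⁻¹ = a * (w * ((a : K)⁻¹ * b)) * (b : K)⁻¹ := by group
        _ = a * (((a : K)⁻¹ * b) * w) * (b : K)⁻¹ := by rw [h1]
        _ = b * w * (b : K)⁻¹ := by group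
    · rintro ⟨a⟩ ⟨b⟩ hab
      have h1 : (a : K) * w * (a : K)⁻¹ = b * w * (b : K)⁻¹ := congrArg Subtype.val hab
      refine Quotient.sound (QuotientGroup.leftRel_apply.2 ?_)
      rw [hmemC]
      push_cast
      calc (a : K)⁻¹ * b * w = (a : K)⁻¹ * ((b : K) * w * (b : K)⁻¹) * b := by group
        _ = (a : K)⁻¹ * ((a : K) * w * (a : K)⁻¹) * b := by rw [h1]
        _ = w * ((a : K)⁻¹ * b) := by group
    · rintro ⟨x, hx⟩
      by_cases hxw : w = x
      · exact ⟨QuotientGroup.mk 1, Subtype.ext (by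
          show ((1 : O) : K) * w * ((1 : O) : K)⁻¹ = x
          simpa using hxw)⟩
      obtain ⟨k, hk⟩ := hodd
      have hr : w * x ∈ O := by
        obtain ⟨g, hg⟩ : ∃ g : K, g * w * g⁻¹ = x :=
          isConj_iff.1 (isConj_of_odd_order (hinv w hw) (hinv x hx)
            (by rw [hpair w hw x hx hxw]; exact ⟨k, hk⟩))
        have h1 := O.inv_mem (hz g)
        rw [hg, mul_inv_rev, inv_inv, inv_eq_self_of_involution (hinv x hx)] at h1
        exact h1
      refine ⟨QuotientGroup.mk (⟨(w * x) ^ k, O.pow_mem hr k⟩ : O), Subtype.ext ?_⟩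
      show (w * x) ^ k * w * ((w * x) ^ k)⁻¹ = x
      refine conj_pow_eq (hinv w hw) (hinv x hx) ?_
      rw [← hk, ← hpair w hw x hx hxw, pow_orderOf_eq_one]
  refine ⟨(W.ncard).primeFactorsList.length, Nat.eq_prime_pow_of_unique_prime_dvd ?_ fun {q} hq hdvd => ?_⟩
  · exact ((Set.ncard_pos W.toFinite).2 ⟨w, hw⟩).ne'
  by_contra hqp
  have : Fact q.Prime := ⟨hq⟩
  set φ : MulAut O := MulAut.conjNormal w
  have hφ : φ ^ 2 = 1 := by
    rw [← map_pow, pow_two, mul_self_eq_one (hinv w hw), map_one]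
  -- a Sylow subgroup of the core normalised by `w`
  obtain ⟨Q, hQ⟩ : ∃ Q : Sylow q O, φ • Q = Q := by
    have : Fintype (Sylow q O) := Fintype.ofFinite _
    obtain ⟨Q₀⟩ : Nonempty (Sylow q O) := inferInstance
    refine Equiv.Perm.exists_fixed_point_of_prime (p := 2) (n := 1) ?_
      (σ := MulAction.toPermHom (MulAut O) (Sylow q O) φ) ?_
    · rw [← Nat.card_eq_fintype_card]
      intro h2
      exact (Nat.not_even_iff_odd.2 hOodd) (even_iff_two_dvd.2 (h2.trans
        ((Sylow.card_dvd_index Q₀).trans (Subgroup.index_dvd_card _))))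
    · rw [← map_pow, pow_one, hφ, map_one]
  have hQC : (Q : Subgroup O) ≤ C := by
    intro g hg
    rw [hmemC]
    have hφg : φ g ∈ (Q : Subgroup O) := by
      have : φ • g ∈ φ • (Q : Subgroup O) := Subgroup.smul_mem_pointwise_smul g φ _ hg
      rw [← Sylow.pointwise_smul_def, hQ] at this
      exact this
    set t : O := g⁻¹ * φ g with htdef
    have htQ : t ∈ (Q : Subgroup O) := mul_mem (inv_mem hg) hφg
    have hteq : (t : K) = (g : K)⁻¹ * (w * g * w⁻¹) := rfl
    have hww : w⁻¹ = w := inv_eq_self_of_involution (hinv w hw)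
    have hti : w * (t : K) * w⁻¹ = (t : K)⁻¹ := by
      rw [hteq]
      calc w * ((g : K)⁻¹ * (w * g * w⁻¹)) * w⁻¹
          = w * (g : K)⁻¹ * w * g * (w⁻¹ * w⁻¹) := by group
        _ = w⁻¹⁻¹ * (g : K)⁻¹ * w⁻¹ * g := by
            rw [hww, mul_self_eq_one (hinv w hw), mul_one, hww]
        _ = _ := by group
    have htp : t ^ p = 1 := Subtype.ext (by simpa using hinvp _ t.2 hti)
    obtain ⟨j, hj⟩ := Q.2 ⟨t, htQ⟩
    have hj' : t ^ q ^ j = 1 := by simpa using congrArg Subtype.val hj
    have ht1 : orderOf t = 1 :=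
      Nat.eq_one_of_dvd_coprimes (((Nat.coprime_primes hp hq).2 (Ne.symm hqp)).pow_right j)
        (orderOf_dvd_of_pow_eq_one htp) (orderOf_dvd_of_pow_eq_one hj')
    rw [orderOf_eq_one_iff, htdef, inv_mul_eq_one] at ht1
    have h2 : (g : K) = w * g * w⁻¹ := congrArg Subtype.val ht1
    exact (eq_mul_inv_iff_mul_eq.1 h2)
  exact Q.not_dvd_index ((hcard ▸ hdvd).trans (Subgroup.index_dvd_of_le hQC))

/-- A set of involutions closed under mutual conjugation with all products of order `p` has `p`-power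
size. -/
theorem exists_ncard_eq_pow (hp : p.Prime) (hodd : Odd p) {W : Set K} (hne : W.Nonempty)
    (hinv : ∀ w ∈ W, orderOf w = 2)
    (hpair : ∀ v ∈ W, ∀ w ∈ W, v ≠ w → orderOf (v * w) = p)
    (hconj : ∀ v ∈ W, ∀ w ∈ W, v * w * v ∈ W) : ∃ k, W.ncard = p ^ k := by
  set H := Subgroup.closure W
  have hWH : W ⊆ Set.range (H.subtype) := fun x hx => ⟨⟨x, Subgroup.subset_closure hx⟩, rfl⟩
  rw [← Set.ncard_preimage_of_injective_subset_range H.subtype_injective hWH]
  obtain ⟨w, hw⟩ := hne
  refine ncard_pow_of_generates hp hodd ⟨⟨w, Subgroup.subset_closure hw⟩, hw⟩ ?_ ?_ ?_ ?_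
  · exact Subgroup.closure_closure_coe_preimage
  · exact fun x hx => (Subgroup.orderOf_coe x).symm.trans (hinv _ hx)
  · exact fun a ha b hb hab =>
      (Subgroup.orderOf_coe (a * b)).symm.trans (hpair _ ha _ hb fun h => hab (Subtype.ext h))
  · exact fun a ha b hb => hconj _ ha _ hb

/-- If a power of an odd prime and its successor, a power of two, are not too small, the exponent of
the odd prime is one. -/
theorem eq_prime_of_succ_two_pow {q : ℕ} (hodd : Odd q) (hq : 3 ≤ q) {β l s : ℕ} (hs : 3 ≤ s)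
    (h1 : s = q ^ β) (h2 : s + 1 = 2 ^ l) : s = q := by
  have hl : 2 ≤ l := by
    by_contra h
    interval_cases l <;> omega
  rcases Nat.even_or_odd β with ⟨c, hc⟩ | ⟨c, hc⟩
  · exfalso
    obtain ⟨d, hd⟩ := hodd.pow (n := c)
    have h3 : s % 4 = 1 := by
      rw [h1, hc, pow_add, hd]
      ring_nf
      omega
    have h4 : 4 ∣ 2 ^ l := (show (4 : ℕ) = 2 ^ 2 by norm_num) ▸ pow_dvd_pow 2 hl
    omega
  · have hq1 : q ∣ s := h1 ▸ dvd_pow_self q (by omega)
    have hqs : q ≤ s := Nat.le_of_dvd (by omega) hq1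
    have hdvd : (q + 1) ∣ 2 ^ l := by
      rw [← h2, h1]
      have := Odd.nat_add_dvd_pow_add_pow q 1 (⟨c, hc⟩ : Odd β)
      rwa [one_pow] at this
    obtain ⟨i', -, hi'⟩ := (Nat.dvd_prime_pow Nat.prime_two).1 hdvd
    have hi1 : 2 ≤ i' := by
      by_contra h
      interval_cases i' <;> omega
    -- `q ^ 2` is one modulo `2 ^ (i' + 1)`
    have hZ : (q : ZMod (2 ^ (i' + 1))) = (2 : ZMod (2 ^ (i' + 1))) ^ i' - 1 := by
      rw [eq_sub_iff_add_eq]
      exact_mod_cast congrArg (Nat.cast (R := ZMod (2 ^ (i' + 1)))) hi'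
    have h0 : (2 : ZMod (2 ^ (i' + 1))) ^ (i' + 1) = 0 := by
      exact_mod_cast ZMod.natCast_self (2 ^ (i' + 1))
    have hsq : (q : ZMod (2 ^ (i' + 1))) ^ 2 = 1 := by
      have e : (2 : ZMod (2 ^ (i' + 1))) ^ i' * 2 ^ i' = 2 ^ (i' + 1) * 2 ^ (i' - 1) := by
        rw [← pow_add, ← pow_add]; congr 1; omega
      have e1 : (2 : ZMod (2 ^ (i' + 1))) ^ i' * 2 = 0 := by rw [← pow_succ, h0]
      rw [hZ]
      linear_combination e + (2 : ZMod (2 ^ (i' + 1))) ^ (i' - 1) * h0 - e1
    have hsmod : (s : ZMod (2 ^ (i' + 1))) = q := by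
      subst h1
      rw [hc, Nat.cast_pow]
      exact (pow_succ _ _).trans (by rw [pow_mul, hsq, one_pow, one_mul])
    by_contra hne
    have hlt : q + 1 < s + 1 := by omega
    have hi2 : i' < l := by
      rw [hi', h2] at hlt
      exact (Nat.pow_lt_pow_iff_right (by norm_num)).1 hlt
    have h5 : ((2 ^ l : ℕ) : ZMod (2 ^ (i' + 1))) = 0 :=
      (ZMod.natCast_eq_zero_iff _ _).2 (pow_dvd_pow 2 hi2)
    rw [← h2, Nat.cast_add, hsmod, ← Nat.cast_add, hi', ZMod.natCast_eq_zero_iff] at h5
    exact absurd ((Nat.pow_dvd_pow_iff_le_right (by norm_num)).1 h5) (by omega)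

theorem ncard_eq_mul_of_fibers {α β : Type*} [Finite α] [Finite β] (f : α → β) {T : Set α}
    {S : Set β} {k : ℕ} (hmaps : ∀ a ∈ T, f a ∈ S)
    (hk : ∀ b ∈ S, {a ∈ T | f a = b}.ncard = k) : T.ncard = k * S.ncard := by
  classical
  have := Fintype.ofFinite α
  have := Fintype.ofFinite β
  rw [Set.ncard_eq_toFinset_card' T, Set.ncard_eq_toFinset_card' S,
    Finset.card_eq_sum_card_fiberwise (f := f) (t := S.toFinset) fun a ha => by simpa using hmaps a (by simpa using ha),
    Finset.sum_const_nat (m := k) fun b hb => ?_, mul_comm]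
  rw [← hk b (by simpa using hb), Set.ncard_eq_toFinset_card']
  congr 1
  ext a
  simp

/-- A double count: a relation cannot be at least `k` to one side and at most `m < k` to the other. -/
theorem false_of_double_count {α : Type*} [Finite α] {T : Set α} (hT : T.Nonempty) (R : α → α → Prop)
    {k m : ℕ} (hmk : m < k) (hl : ∀ a ∈ T, k ≤ {b ∈ T | R a b}.ncard)
    (hr : ∀ b ∈ T, {a ∈ T | R a b}.ncard ≤ m) : False := by
  classical
  have := Fintype.ofFinite α
  have := Finset.card_nsmul_le_card_nsmul (R := ℕ) R (s := T.toFinset) (t := T.toFinset) (m := k) (n := m)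
    (fun a ha => by
      refine (hl a (by simpa using ha)).trans (le_of_eq ?_)
      rw [Set.ncard_eq_toFinset_card']
      refine congrArg Finset.card (Finset.ext fun b => ?_)
      simp [Finset.bipartiteAbove])
    (fun b hb => by
      refine (le_of_eq ?_).trans (hr b (by simpa using hb))
      rw [Set.ncard_eq_toFinset_card']
      refine congrArg Finset.card (Finset.ext fun a => ?_)
      simp [Finset.bipartiteBelow])
  rw [smul_eq_mul, smul_eq_mul] at this
  have hpos : 0 < T.toFinset.card := Finset.card_pos.2 (by simpa using hT)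
  exact absurd (Nat.le_of_mul_le_mul_left this hpos) (by omega)

end CfsgLib.RankThreeInv
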