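import Mathlib
import Cfsg.Agent.Lib.RankThreeInv.Basic
import Cfsg.Agent.Lib.RankThreeInv.Pairwise

/-!
No finite group has a conjugation-closed set of involutions, non-commuting members having products of
order `p`, which contains a commuting triple `a`, `b`, `a * b` and a member not commuting with `a`.
-/

set_option autoImplicit false

namespace CfsgLib.RankThreeInv

open CfsgLib.Involutions MulAction

universe u

variable {K : Type u} [Group K] {p : ℕ} {X : Set K}

/-- The set contains a commuting triple and a member not commuting with its first entry. -/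
def HasDegenerate (X : Set K) : Prop :=
  ∃ a ∈ X, ∃ b ∈ X, ∃ y ∈ X, Commute a b ∧ a * b ∈ X ∧ ¬ Commute a y

/-- The properties of a smallest configuration. -/
structure Ctx (p : ℕ) (X : Set K) : Prop where
  base : PSet p X
  cls : ∀ x ∈ X, ∀ y ∈ X, ∃ g : K, g * x * g⁻¹ = y
  ex : HasDegenerate X
  top : ∀ H : Subgroup K, ∀ a ∈ X, ∀ b ∈ X, ∀ y ∈ X, Commute a b → a * b ∈ X → ¬ Commute a y →
    a ∈ H → b ∈ H → y ∈ H → H = ⊤
  norm : ∀ N : Subgroup K, N.Normal → N ≠ ⊥ → ∀ a ∈ X, ∀ b ∈ X, ∀ y ∈ X, Commute a b →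
    a * b ∈ X → ¬ Commute a y → a * y ∈ N

/-- The members commuting with a given one. -/
def blk (X : Set K) (x : K) : Set K := {z | z ∈ X ∧ Commute z x}

/-- The stabiliser of a block. -/
def St (X : Set K) (x : K) : Subgroup K := Subgroup.normalizer (blk X x)

/-- The members carrying the block of `x` to the block of `y`. -/
def W (X : Set K) (x y : K) : Set K := {w | w ∈ X ∧ Commute (w * x * w) y}

/-- An element normalising a group of prime order, with trivial `p`-th power, centralises it. -/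
theorem commute_of_normalises (hp : p.Prime) {r s : K} (hs : orderOf s = p) (hr : r ^ p = 1)
    (h : r * s * r⁻¹ ∈ Subgroup.zpowers s) : Commute r s := by
  obtain ⟨k, hk⟩ := Subgroup.mem_zpowers_iff.1 h
  have hn : ∀ n : ℕ, r ^ n * s * (r ^ n)⁻¹ = s ^ (k ^ n) := by
    intro n
    induction n with
    | zero => simp
    | succ n ih =>
      calc r ^ (n + 1) * s * (r ^ (n + 1))⁻¹ = r * (r ^ n * s * (r ^ n)⁻¹) * r⁻¹ := by
            rw [pow_succ']; group
        _ = r * s ^ (k ^ n) * r⁻¹ := by rw [ih]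
        _ = s ^ (k ^ (n + 1)) := by rw [← conj_zpow, ← hk, ← zpow_mul, pow_succ, mul_comm]
  have h1 := hn p
  rw [hr] at h1
  have h2 : s ^ (k ^ p) = s ^ k := by
    rw [zpow_eq_zpow_iff_modEq, hs]
    have : Fact p.Prime := ⟨hp⟩
    rw [← ZMod.intCast_eq_intCast_iff, Int.cast_pow, ZMod.pow_card]
  rw [h2, hk, one_mul, inv_one, mul_one] at h1
  exact (mul_inv_eq_iff_eq_mul.1 h1.symm)

theorem mem_zpowers_of_prime_order (hp : p.Prime) {r s : K} (hr : orderOf r = p)
    (hs : s ∈ Subgroup.zpowers r) (hs1 : s ≠ 1) : r ∈ Subgroup.zpowers s := by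
  obtain ⟨k, rfl⟩ := Subgroup.mem_zpowers_iff.1 hs
  have : Fact p.Prime := ⟨hp⟩
  have hk : (k : ZMod p) ≠ 0 := fun h => hs1 (by
    rw [← orderOf_dvd_iff_zpow_eq_one, hr]
    exact (ZMod.intCast_zmod_eq_zero_iff_dvd k p).1 h)
  refine Subgroup.mem_zpowers_iff.2 ⟨((k : ZMod p)⁻¹).val, ?_⟩
  rw [← zpow_mul]
  conv_rhs => rw [← zpow_one r]
  rw [zpow_eq_zpow_iff_modEq, hr, ← ZMod.intCast_eq_intCast_iff]
  push_cast
  rw [ZMod.natCast_zmod_val, mul_inv_cancel₀ hk]

namespace Ctx

variable (h : Ctx p X)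
include h

theorem loc {g a b y : K} (hg : g ≠ 1) (ha : a ∈ X) (hb : b ∈ X) (hy : y ∈ X) (hab : Commute a b)
    (hc : a * b ∈ X) (hay : ¬ Commute a y) (hga : Commute g a) (hgb : Commute g b)
    (hgy : Commute g y) : False := by
  have htop := h.top (Subgroup.centralizer ({g} : Set K)) a ha b hb y hy hab hc hay
    (Subgroup.mem_centralizer_singleton_iff.2 hga.eq.symm)
    (Subgroup.mem_centralizer_singleton_iff.2 hgb.eq.symm)
    (Subgroup.mem_centralizer_singleton_iff.2 hgy.eq.symm)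
  have hgZ : g ∈ Subgroup.center K := Subgroup.mem_center_iff.2 fun k =>
    Subgroup.mem_centralizer_singleton_iff.1 (htop ▸ Subgroup.mem_top k)
  have hne : Subgroup.center K ≠ ⊥ := fun hh => hg (Subgroup.mem_bot.1 (hh ▸ hgZ))
  have hmem := Subgroup.mem_center_iff.1 (h.norm _ inferInstance hne a ha b hb y hy hab hc hay) a
  refine hay ?_
  have h2 : a * (a * y) * a = (a * y) * a * a := by rw [hmem]
  rw [h.base.mul_self_mul ha, mul_assoc (a * y), h.base.mul_self ha, mul_one] at h2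
  exact h2.symm

theorem exists_not_commute {x : K} (hx : x ∈ X) : ∃ y ∈ X, ¬ Commute x y := by
  obtain ⟨a, ha, b, hb, y, hy, -, -, hay⟩ := h.ex
  obtain ⟨g, rfl⟩ := h.cls a ha x hx
  exact ⟨g * y * g⁻¹, h.base.conj g y hy, fun hh => hay ((Commute.conj_iff g).1 hh)⟩

theorem exists_partner {x : K} (hx : x ∈ X) : ∃ b ∈ X, Commute x b ∧ x * b ∈ X := by
  obtain ⟨a, ha, b, hb, y, hy, hab, hc, -⟩ := h.ex
  obtain ⟨g, rfl⟩ := h.cls a ha x hx
  refine ⟨g * b * g⁻¹, h.base.conj g b hb, commute_conj g hab, ?_⟩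
  have := h.base.conj g _ hc
  rwa [conj_mul]

theorem trans {a v w : K} (ha : a ∈ X) (hv : v ∈ X) (hw : w ∈ X) (hav : Commute a v)
    (hvw : Commute v w) : Commute a w := by
  by_contra haw
  obtain ⟨b, hb, hab, hc⟩ := h.exists_partner ha
  exact h.loc (h.base.ne_one hv) ha hb hw hab hc haw hav.symm
    (h.base.commute_of_triangle ha hb hab hc hv hav.symm) hvw

theorem mem_St {x g : K} (hx : x ∈ X) : g ∈ St X x ↔ Commute (g * x * g⁻¹) x := by
  constructor
  · intro hg
    exact ((Subgroup.mem_set_normalizer_iff.1 hg x).1 ⟨hx, Commute.refl x⟩).2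
  · intro hg
    refine Subgroup.mem_set_normalizer_iff.2 fun n => ⟨?_, ?_⟩
    · rintro ⟨hn, hnx⟩
      exact ⟨h.base.conj g n hn,
        h.trans (h.base.conj g n hn) (h.base.conj g x hx) hx (commute_conj g hnx) hg⟩
    · rintro ⟨hn, hnx⟩
      have hn' : n ∈ X := by
        have := h.base.conj g⁻¹ _ hn
        convert this using 1; group
      exact ⟨hn', (Commute.conj_iff g).1 (h.trans hn hx (h.base.conj g x hx) hnx hg.symm)⟩

theorem blk_eq {x z : K} (hx : x ∈ X) (hz : z ∈ X) (hxz : Commute x z) : blk X x = blk X z :=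
  Set.ext fun n => ⟨fun hn => ⟨hn.1, h.trans hn.1 hx hz hn.2 hxz⟩,
    fun hn => ⟨hn.1, h.trans hn.1 hz hx hn.2 hxz.symm⟩⟩

theorem St_eq {x z : K} (hx : x ∈ X) (hz : z ∈ X) (hxz : Commute x z) : St X x = St X z := by
  rw [St, St, h.blk_eq hx hz hxz]

theorem self_mem_St {x z : K} (hx : x ∈ X) (hzx : Commute z x) : z ∈ St X x := by
  rw [h.mem_St hx, hzx.eq, mul_inv_cancel_right]

theorem commute_of_mem_St {x z : K} (hx : x ∈ X) (hz : z ∈ X) (hzs : z ∈ St X x) : Commute z x := by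
  by_contra hc
  rw [h.mem_St hx] at hzs
  refine h.base.not_four_of_order (h.base.order hz hx hc) ?_
  have h1 : (z * x) ^ 2 = (z * x * z⁻¹) * x := by rw [h.base.inv_eq hz, pow_two, ← mul_assoc]
  rw [show (4 : ℕ) = 2 * 2 from rfl, pow_mul, h1, hzs.mul_pow, pow_two, pow_two,
    h.base.mul_self (h.base.conj z x hx), h.base.mul_self hx, one_mul]

theorem St_conj {x g : K} (hx : x ∈ X) (c : K) (hg : g ∈ St X x) :
    c * g * c⁻¹ ∈ St X (c * x * c⁻¹) := by
  rw [h.mem_St (h.base.conj c x hx)]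
  rw [h.mem_St hx] at hg
  convert commute_conj c hg using 1
  group

/-! The elementary abelian group of a block. -/

theorem V_commute {x g z : K} (hx : x ∈ X) (hg : g ∈ Subgroup.closure (blk X x))
    (hz : z ∈ blk X x) : Commute g z := by
  have hle : Subgroup.closure (blk X x) ≤ Subgroup.centralizer ({z} : Set K) := by
    rw [Subgroup.closure_le]
    exact fun n hn => Subgroup.mem_centralizer_singleton_iff.2
      (h.trans hn.1 hx hz.1 hn.2 hz.2.symm).eq
  exact Subgroup.mem_centralizer_singleton_iff.1 (hle hg)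

theorem V_commute' {x g g' : K} (hx : x ∈ X) (hg : g ∈ Subgroup.closure (blk X x))
    (hg' : g' ∈ Subgroup.closure (blk X x)) : Commute g g' := by
  have hle : Subgroup.closure (blk X x) ≤ Subgroup.centralizer ({g} : Set K) := by
    rw [Subgroup.closure_le]
    exact fun n hn => Subgroup.mem_centralizer_singleton_iff.2 (h.V_commute hx hg hn).eq.symm
  exact (Subgroup.mem_centralizer_singleton_iff.1 (hle hg')).symm

theorem V_sq {x g : K} (hx : x ∈ X) (hg : g ∈ Subgroup.closure (blk X x)) : g * g = 1 := by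
  induction hg using Subgroup.closure_induction with
  | mem a ha => exact h.base.mul_self ha.1
  | one => exact one_mul 1
  | mul a b ha hb iha ihb =>
    rw [← pow_two, (h.V_commute' hx ha hb).mul_pow, pow_two, pow_two, iha, ihb, one_mul]
  | inv a _ iha => rw [← mul_inv_rev, iha, inv_one]

theorem V_le_St {x : K} (hx : x ∈ X) : Subgroup.closure (blk X x) ≤ St X x := by
  rw [Subgroup.closure_le]
  exact fun n hn => h.self_mem_St hx hn.2

theorem V_fix {x g w : K} (hx : x ∈ X) (hg : g ∈ Subgroup.closure (blk X x)) (hg1 : g ≠ 1)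
    (hw : w ∈ X) (hgw : Commute g w) : Commute w x := by
  by_contra hc
  obtain ⟨b, hb, hxb, hxbX⟩ := h.exists_partner hx
  exact h.loc hg1 hx hb hw hxb hxbX (fun hh => hc hh.symm)
    (h.V_commute hx hg ⟨hx, Commute.refl x⟩) (h.V_commute hx hg ⟨hb, hxb.symm⟩) hgw

theorem centralizer_le_St {x g k : K} (hx : x ∈ X) (hg : g ∈ Subgroup.closure (blk X x))
    (hg1 : g ≠ 1) (hk : Commute k g) : k ∈ St X x := by
  rw [h.mem_St hx]
  refine h.V_fix hx hg hg1 (h.base.conj k x hx) ?_
  have := commute_conj k (h.V_commute hx hg ⟨hx, Commute.refl x⟩)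
  rwa [hk.eq, mul_inv_cancel_right] at this

theorem V_conj {x g k : K} (hk : k ∈ St X x) (hg : g ∈ Subgroup.closure (blk X x)) :
    k * g * k⁻¹ ∈ Subgroup.closure (blk X x) := by
  have hle : Subgroup.closure (blk X x) ≤
      (Subgroup.closure (blk X x)).comap (MulAut.conj k).toMonoidHom := by
    rw [Subgroup.closure_le]
    exact fun n hn => Subgroup.subset_closure ((Subgroup.mem_set_normalizer_iff.1 hk n).1 hn)
  exact hle hg

theorem V_inter {x y g : K} (hx : x ∈ X) (hy : y ∈ X) (hxy : ¬ Commute x y)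
    (hgx : g ∈ Subgroup.closure (blk X x)) (hgy : g ∈ Subgroup.closure (blk X y)) : g = 1 := by
  by_contra hg
  exact hxy (h.V_fix hx hgx hg hy (h.V_commute hy hgy ⟨hy, Commute.refl y⟩)).symm

theorem conj_fix_aux {x y z n : K} (hx : x ∈ X) (hy : y ∈ X) (hxy : ¬ Commute x y)
    (hz : z ∈ Subgroup.closure (blk X x) ⊓ St X y) (hn : n ∈ Subgroup.closure (blk X y) ⊓ St X x) :
    Commute z n := by
  have h1 : z * n * z⁻¹ * n⁻¹ = 1 := by
    apply h.V_inter hx hy hxy
    · rw [show z * n * z⁻¹ * n⁻¹ = z * (n * z⁻¹ * n⁻¹) by group]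
      exact mul_mem hz.1 (h.V_conj hn.2 (inv_mem hz.1))
    · exact mul_mem (h.V_conj hz.2 hn.1) (inv_mem hn.1)
  exact commutatorElement_eq_one_iff_commute.1 h1

theorem conj_mem_sup {x y u n : K} (hx : x ∈ X) (hy : y ∈ X) (hu : u ∈ blk X x)
    (hn : n ∈ Subgroup.closure (blk X y) ⊓ St X x) :
    u * n * u⁻¹ ∈ (Subgroup.closure (blk X x) ⊓ St X y) ⊔ (Subgroup.closure (blk X y) ⊓ St X x) := by
  by_cases hn1 : n = 1
  · simp [hn1]
  have hninv : n⁻¹ = n := inv_eq_of_mul_eq_one_right (h.V_sq hy hn.1)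
  set s := u * (n * u * n⁻¹)
  have hnu : n * u * n⁻¹ ∈ blk X x := (Subgroup.mem_set_normalizer_iff.1 hn.2 u).1 hu
  have hs : s ∈ Subgroup.closure (blk X x) :=
    mul_mem (Subgroup.subset_closure hu) (Subgroup.subset_closure hnu)
  have hs1 := h.V_sq hx hs
  have hsn : s * n = u * n * u⁻¹ := by
    rw [h.base.inv_eq hu.1]; simp only [s]; group
  have hconj2 : (u * n * u⁻¹) * (u * n * u⁻¹) = 1 := by
    rw [conj_mul, h.V_sq hy hn.1, mul_one, mul_inv_cancel]
  have hseq : s = (u * n * u⁻¹) * n := by rw [← hsn, mul_assoc, h.V_sq hy hn.1, mul_one]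
  have hc : Commute (u * n * u⁻¹) n :=
    commute_of_mul_sq hconj2 (h.V_sq hy hn.1) (hseq ▸ hs1)
  have h1 : u * n * u⁻¹ ∈ St X y := h.centralizer_le_St hy hn.1 hn1 hc
  have hsy : s ∈ St X y := hseq ▸ mul_mem h1 (h.V_le_St hy hn.1)
  rw [← hsn]
  exact Subgroup.mul_mem_sup ⟨hs, hsy⟩ hn

theorem no_fix {x y g : K} (hx : x ∈ X) (hy : y ∈ X) (hg : g ∈ Subgroup.closure (blk X x))
    (hg1 : g ≠ 1) (hgy : g ∈ St X y) : Commute x y := by
  by_contra hxy
  set Z := Subgroup.closure (blk X x) ⊓ St X y with hZ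
  set Z' := Subgroup.closure (blk X y) ⊓ St X x with hZ'
  set A := Z ⊔ Z' with hA
  have hcomm : ∀ z ∈ Z, ∀ n ∈ Z', Commute z n := fun z hz n hn => h.conj_fix_aux hx hy hxy hz hn
  obtain ⟨b, hb, hxb, hxbX⟩ := h.exists_partner hx
  set H : Subgroup K :=
    { carrier := {k | (∀ a ∈ A, k * a * k⁻¹ ∈ A) ∧ ∀ a ∈ A, k⁻¹ * a * k ∈ A}
      one_mem' := by simp
      mul_mem' := fun {k l} hk hl => ⟨fun a ha => by
        have := hk.1 _ (hl.1 a ha)
        convert this using 1; group, fun a ha => by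
        have := hl.2 _ (hk.2 a ha)
        convert this using 1; group⟩
      inv_mem' := fun {k} hk => ⟨fun a ha => by simpa using hk.2 a ha,
        fun a ha => by simpa using hk.1 a ha⟩ }
  have hgen : ∀ u : K, u⁻¹ = u → (∀ z ∈ Z, u * z * u⁻¹ ∈ A) → (∀ n ∈ Z', u * n * u⁻¹ ∈ A) → u ∈ H := by
    intro u hu h1 h2
    have hle : A ≤ A.comap (MulAut.conj u).toMonoidHom := sup_le h1 h2
    refine ⟨fun a ha => hle ha, fun a ha => ?_⟩
    have := hle ha
    change u * a * u⁻¹ ∈ A at this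
    rwa [hu] at this ⊢
  have hHx : ∀ u ∈ blk X x, u ∈ H := fun u hu =>
    hgen u (h.base.inv_eq hu.1)
      (fun z hz => by
        rw [(h.V_commute hx hz.1 hu).eq.symm, mul_inv_cancel_right]
        exact Subgroup.mem_sup_left hz)
      (fun n hn => h.conj_mem_sup hx hy hu hn)
  have hHy : ∀ u ∈ blk X y, u ∈ H := fun u hu =>
    hgen u (h.base.inv_eq hu.1)
      (fun z hz => by rw [hA, sup_comm]; exact h.conj_mem_sup hy hx hu hz)
      (fun n hn => by
        rw [(h.V_commute hy hn.1 hu).eq.symm, mul_inv_cancel_right]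
        exact Subgroup.mem_sup_right hn)
  have htop : H = ⊤ := h.top H x hx b hb y hy hxb hxbX hxy (hHx x ⟨hx, Commute.refl x⟩)
    (hHx b ⟨hb, hxb.symm⟩) (hHy y ⟨hy, Commute.refl y⟩)
  have hAn : A.Normal := ⟨fun a ha k => (show k ∈ H from htop ▸ Subgroup.mem_top k).1 a ha⟩
  have hA1 : A ≠ ⊥ := fun hh =>
    hg1 (Subgroup.mem_bot.1 (hh ▸ Subgroup.mem_sup_left (T := Z') (show g ∈ Z from ⟨hg, hgy⟩)))
  have hmem := h.norm A hAn hA1 x hx b hb y hy hxb hxbX hxy
  have hsq : ∀ a ∈ A, a * a = 1 := by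
    intro a ha
    rw [hA, Subgroup.sup_eq_closure] at ha
    have hall : ∀ t ∈ ((Z : Set K) ∪ Z'), ∀ t' ∈ ((Z : Set K) ∪ Z'), Commute t t' := by
      rintro t (ht | ht) t' (ht' | ht')
      · exact h.V_commute' hx ht.1 ht'.1
      · exact hcomm t ht t' ht'
      · exact (hcomm t' ht' t ht).symm
      · exact h.V_commute' hy ht.1 ht'.1
    induction ha using Subgroup.closure_induction with
    | mem t ht =>
      rcases ht with ht | ht
      · exact h.V_sq hx ht.1
      · exact h.V_sq hy ht.1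
    | one => exact one_mul 1
    | mul c d hc hd ihc ihd =>
      have hcd : Commute c d := by
        have hle : Subgroup.closure ((Z : Set K) ∪ Z') ≤ Subgroup.centralizer ((Z : Set K) ∪ Z') := by
          rw [Subgroup.closure_le]
          exact fun t ht t' ht' => (hall t' ht' t ht).eq
        have hle2 : Subgroup.closure ((Z : Set K) ∪ Z') ≤ Subgroup.centralizer ({c} : Set K) := by
          rw [Subgroup.closure_le]
          exact fun t ht => Subgroup.mem_centralizer_singleton_iff.2 (hle hc t ht)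
        exact (Subgroup.mem_centralizer_singleton_iff.1 (hle2 hd)).symm
      rw [← pow_two, hcd.mul_pow, pow_two, pow_two, ihc, ihd, one_mul]
    | inv c _ ihc => rw [← mul_inv_rev, ihc, inv_one]
  exact h.base.not_sq_of_order (h.base.order hx hy hxy) (hsq _ hmem)

theorem mul_mem_X {a b : K} (ha : a ∈ X) (hb : b ∈ X) (hab : Commute a b) (hne : a ≠ b) :
    a * b ∈ X := by
  obtain ⟨y, hy, hay⟩ := h.exists_not_commute ha
  have hg : a * b ∈ Subgroup.closure (blk X a) :=
    mul_mem (Subgroup.subset_closure ⟨ha, Commute.refl a⟩) (Subgroup.subset_closure ⟨hb, hab.symm⟩)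
  have hg1 : a * b ≠ 1 := fun hh => hne (by rw [mul_eq_one_iff_eq_inv, h.base.inv_eq hb] at hh; exact hh)
  have hsq := h.V_sq ha hg
  set g := a * b
  have hginv : g⁻¹ = g := inv_eq_of_mul_eq_one_right hsq
  have hy' := h.base.conj g y hy
  have hyy : ¬ Commute y (g * y * g⁻¹) := fun hh =>
    hay (h.no_fix ha hy hg hg1 ((h.mem_St hy).2 hh.symm))
  obtain ⟨m, hm, he⟩ := h.base.exists_mid hy hy' hyy
  have hback : g * (g * y * g⁻¹) * g⁻¹ = y := by
    rw [hginv, show g * (g * y * g) * g = (g * g) * y * (g * g) by group, hsq, one_mul, mul_one]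
  have hgm := h.base.commute_mid hy hm hyy he rfl hback
  have hmx := h.V_fix ha hg hg1 hm hgm
  have hgmV : g * m ∈ Subgroup.closure (blk X a) := mul_mem hg (Subgroup.subset_closure ⟨hm, hmx⟩)
  by_cases hgm1 : g * m = 1
  · rw [mul_eq_one_iff_eq_inv, h.base.inv_eq hm] at hgm1
    rwa [hgm1]
  · refine absurd (h.V_fix ha hgmV hgm1 hy ?_) (fun hh => hay hh.symm)
    refine (mul_inv_eq_iff_eq_mul.1 (?_ : g * m * y * (g * m)⁻¹ = y))
    rw [mul_inv_rev, h.base.inv_eq hm, show g * m * y * (m * g⁻¹) = g * (m * y * m) * g⁻¹ by group, he,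
      hback]

theorem mem_V_iff {x g : K} (hx : x ∈ X) :
    g ∈ Subgroup.closure (blk X x) ↔ g = 1 ∨ g ∈ blk X x := by
  refine ⟨fun hg => ?_, fun hg => hg.elim (fun h1 => h1 ▸ one_mem _) fun h1 => Subgroup.subset_closure h1⟩
  induction hg using Subgroup.closure_induction with
  | mem a ha => exact Or.inr ha
  | one => exact Or.inl rfl
  | mul a b _ _ iha ihb =>
    rcases iha with rfl | iha
    · rwa [one_mul]
    rcases ihb with rfl | ihb
    · rw [mul_one]; exact Or.inr iha
    by_cases hab : a = b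
    · exact Or.inl (by rw [hab, h.base.mul_self ihb.1])
    · exact Or.inr ⟨h.mul_mem_X iha.1 ihb.1 (h.trans iha.1 hx ihb.1 iha.2 ihb.2.symm) hab,
        iha.2.mul_left ihb.2⟩
  | inv a _ iha =>
    rcases iha with rfl | iha
    · exact Or.inl inv_one
    · rw [h.base.inv_eq iha.1]; exact Or.inr iha

/-! The members exchanging two blocks. -/

theorem W_symm {x y w : K} (hw : w ∈ W X x y) : Commute (w * y * w) x := by
  have := commute_conj w hw.2
  rw [h.base.inv_eq hw.1, show w * (w * x * w) * w = (w * w) * x * (w * w) by group,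
    h.base.mul_self hw.1, one_mul, mul_one] at this
  exact this.symm

theorem W_ncomm {x y w : K} (hxy : ¬ Commute x y) (hw : w ∈ W X x y) : ¬ Commute x w := fun hc => by
  have := hw.2
  rw [← hc.eq, mul_assoc, h.base.mul_self hw.1, mul_one] at this
  exact hxy this

theorem W_order {x y : K} (hx : x ∈ X) (hy : y ∈ X) (hxy : ¬ Commute x y) {v w : K}
    (hv : v ∈ W X x y) (hw : w ∈ W X x y) (hne : v ≠ w) : ¬ Commute v w := by
  intro hc
  have hg := h.mul_mem_X hv.1 hw.1 hc hne
  have hgx : v * w ∈ St X x := by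
    rw [h.mem_St hx, mul_inv_rev, h.base.inv_eq hv.1, h.base.inv_eq hw.1,
      show v * w * x * (w * v) = v * (w * x * w) * v by group]
    refine h.trans (h.base.conj_self hv.1 (h.base.conj_self hw.1 hx)) (h.base.conj_self hv.1 hy) hx ?_
      (h.W_symm hv)
    have := commute_conj v hw.2
    rwa [h.base.inv_eq hv.1] at this
  have h1 := h.commute_of_mem_St hx hg hgx
  refine h.W_ncomm hxy hv (h.trans hx hg hv.1 h1.symm ?_)
  exact (Commute.refl v).mul_left hc.symm

theorem W_conj {x y r v : K} (hx : x ∈ X) (hy : y ∈ X) (hrx : r ∈ St X x) (hry : r ∈ St X y)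
    (hv : v ∈ W X x y) : r * v * r⁻¹ ∈ W X x y := by
  have hv' := h.base.conj r v hv.1
  refine ⟨hv', ?_⟩
  have h1 := commute_conj (r * v * r⁻¹) ((h.mem_St hx).1 hrx)
  rw [h.base.inv_eq hv'] at h1
  refine h.trans (h.base.conj_self hv' hx) (h.base.conj r _ (h.base.conj_self hv.1 hx)) hy ?_ ?_
  · convert h1.symm using 1
    rw [← h.base.inv_eq hv.1]; group
  · exact h.trans (h.base.conj r _ (h.base.conj_self hv.1 hx)) (h.base.conj r y hy) hy
      (commute_conj r hv.2) ((h.mem_St hy).1 hry)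

theorem W_conj_self {x y v w : K} (hx : x ∈ X) (hy : y ∈ X) (hv : v ∈ W X x y) (hw : w ∈ W X x y) :
    v * w * v ∈ W X x y := by
  have hvw := h.base.conj_self hv.1 hw.1
  refine ⟨hvw, ?_⟩
  have e : v * w * v * x * (v * w * v) = v * (w * (v * x * v) * w) * v := by group
  rw [e]
  have m1 := h.base.conj_self hv.1 hx
  have m2 := h.base.conj_self hw.1 m1
  have m3 := h.base.conj_self hw.1 hy
  have c1 : Commute (w * (v * x * v) * w) (w * y * w) := by
    have := commute_conj w hv.2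
    rwa [h.base.inv_eq hw.1] at this
  have c2 := h.trans m2 m3 hx c1 (h.W_symm hw)
  have c3 := commute_conj v c2
  rw [h.base.inv_eq hv.1] at c3
  exact h.trans (h.base.conj_self hv.1 m2) m1 hy c3 hv.2

variable [Finite K]

theorem blk_ncard_eq {x y : K} (hx : x ∈ X) (hy : y ∈ X) : (blk X x).ncard = (blk X y).ncard := by
  obtain ⟨g, rfl⟩ := h.cls x hx y hy
  rw [← Set.ncard_image_of_injective (blk X x) (MulAut.conj g).injective]
  congr 1
  ext z
  constructor
  · rintro ⟨n, ⟨hn, hnx⟩, rfl⟩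
    exact ⟨h.base.conj g n hn, commute_conj g hnx⟩
  · rintro ⟨hz, hzx⟩
    refine ⟨g⁻¹ * z * g⁻¹⁻¹, ⟨h.base.conj g⁻¹ z hz, ?_⟩, by simp [MulAut.conj_apply, mul_assoc]⟩
    convert commute_conj g⁻¹ hzx using 1
    group

theorem W_ncard {x y : K} (hx : x ∈ X) (hy : y ∈ X) (hxy : ¬ Commute x y) :
    (W X x y).ncard = (blk X y).ncard := by
  refine Set.ncard_congr (fun w _ => w * x * w)
    (fun w hw => ⟨h.base.conj_self hw.1 hx, hw.2⟩) ?_ ?_
  · exact fun v w hv hw he => h.base.eq_of_conj_eq hx hv.1 hw.1 (h.W_ncomm hxy hv) he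
  · intro z hz
    obtain ⟨m, hm, he⟩ := h.base.exists_mid hx hz.1
      fun hc => hxy (h.trans hx hz.1 hy hc hz.2)
    exact ⟨m, ⟨hm, by rw [he]; exact hz.2⟩, he⟩

theorem blk_ncard {x : K} (hx : x ∈ X) : (blk X x).ncard = p := by
  obtain ⟨y, hy, hxy⟩ := h.exists_not_commute hx
  obtain ⟨b, hb, hxb, hxbX⟩ := h.exists_partner hx
  have hbe : x ≠ b := fun hh => h.base.ne_one hxbX (by rw [← hh, h.base.mul_self hx])
  have h3 : 3 ≤ (blk X x).ncard := by
    have hsub : ({x, b, x * b} : Set K) ⊆ blk X x := by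
      rintro t (rfl | rfl | rfl)
      · exact ⟨hx, Commute.refl _⟩
      · exact ⟨hb, hxb.symm⟩
      · exact ⟨hxbX, (Commute.refl x).mul_left hxb.symm⟩
    refine le_trans (le_of_eq ?_) (Set.ncard_le_ncard hsub (Set.toFinite _))
    exact (Set.ncard_eq_three.2 ⟨x, b, x * b, hbe, fun hh => h.base.ne_one hb (left_eq_mul.1 hh),
      fun hh => h.base.ne_one hx (right_eq_mul.1 hh), rfl⟩).symm
  obtain ⟨β, hβ⟩ : ∃ β, (blk X x).ncard = p ^ β := by
    rw [h.blk_ncard_eq hx hy, ← h.W_ncard hx hy hxy]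
    refine exists_ncard_eq_pow h.base.prime h.base.odd ?_ (fun w hw => h.base.inv w hw.1)
      (fun v hv w hw hne => h.base.order hv.1 hw.1 (h.W_order hx hy hxy hv hw hne))
      (fun v hv w hw => h.W_conj_self hx hy hv hw)
    rw [← Set.ncard_pos (Set.toFinite _), h.W_ncard hx hy hxy, h.blk_ncard_eq hy hx]
    omega
  obtain ⟨l, hl⟩ : ∃ l, (blk X x).ncard + 1 = 2 ^ l := by
    have : Fact (Nat.Prime 2) := ⟨Nat.prime_two⟩
    have hp2 : IsPGroup 2 (Subgroup.closure (blk X x)) := fun g =>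
      ⟨1, Subtype.ext (by rw [pow_one, pow_two]; exact h.V_sq hx g.2)⟩
    obtain ⟨l, hl⟩ := IsPGroup.iff_card.1 hp2
    refine ⟨l, hl ▸ ?_⟩
    have hset : (Subgroup.closure (blk X x) : Set K) = insert 1 (blk X x) :=
      Set.ext fun g => h.mem_V_iff hx
    rw [← Set.ncard_insert_of_notMem (fun h1 => h.base.ne_one h1.1 rfl) (Set.toFinite _), ← hset]
    rfl
  exact eq_prime_of_succ_two_pow h.base.odd h.base.three_le h3 hβ hl

theorem W_ncard' {x y : K} (hx : x ∈ X) (hy : y ∈ X) (hxy : ¬ Commute x y) :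
    (W X x y).ncard = p := by rw [h.W_ncard hx hy hxy, h.blk_ncard hy]

theorem exists_other {x y w : K} (hx : x ∈ X) (hy : y ∈ X) (hxy : ¬ Commute x y) (hw : w ∈ W X x y) :
    ∃ w' ∈ W X x y, w' ≠ w :=
  Set.exists_ne_of_one_lt_ncard (by rw [h.W_ncard' hx hy hxy]; exact h.base.prime.one_lt) w

theorem rot_order {x y v w : K} (hx : x ∈ X) (hy : y ∈ X) (hxy : ¬ Commute x y) (hv : v ∈ W X x y)
    (hw : w ∈ W X x y) (hne : v ≠ w) : orderOf (v * w) = p :=
  h.base.order hv.1 hw.1 (h.W_order hx hy hxy hv hw hne)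

omit [Finite K] in
theorem rot_mem_St {x y v w : K} (hx : x ∈ X) (hy : y ∈ X) (hv : v ∈ W X x y) (hw : w ∈ W X x y) :
    v * w ∈ St X x ∧ v * w ∈ St X y := by
  constructor
  · rw [h.mem_St hx, mul_inv_rev, h.base.inv_eq hv.1, h.base.inv_eq hw.1,
      show v * w * x * (w * v) = v * (w * x * w) * v by group]
    refine h.trans (h.base.conj_self hv.1 (h.base.conj_self hw.1 hx)) (h.base.conj_self hv.1 hy) hx ?_
      (h.W_symm hv)
    have := commute_conj v hw.2
    rwa [h.base.inv_eq hv.1] at this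
  · rw [h.mem_St hy, mul_inv_rev, h.base.inv_eq hv.1, h.base.inv_eq hw.1,
      show v * w * y * (w * v) = v * (w * y * w) * v by group]
    refine h.trans (h.base.conj_self hv.1 (h.base.conj_self hw.1 hy)) (h.base.conj_self hv.1 hx) hy ?_
      hv.2
    have := commute_conj v (h.W_symm hw)
    rwa [h.base.inv_eq hv.1] at this

omit [Finite K] in
/-- A rotation centralises no member. -/
theorem rot_ne {v w u : K} (hv : v ∈ X) (hw : w ∈ X) (hvw : ¬ Commute v w) (hu : u ∈ X) :
    ¬ Commute (v * w) u := by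
  intro hc
  have e : w * u * w = v * u * v := by
    calc w * u * w = v * (v * w * u) * w := by
          rw [show v * (v * w * u) * w = (v * v) * (w * u * w) by group, h.base.mul_self hv, one_mul]
      _ = v * (u * (v * w)) * w := by rw [hc.eq]
      _ = (v * u * v) * (w * w) := by group
      _ = v * u * v := by rw [h.base.mul_self hw, mul_one]
  by_cases huv : Commute u v
  · have huw : Commute u w := by
      have h1 : v * u * v = u := by rw [← huv.eq, mul_assoc, h.base.mul_self hv, mul_one]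
      have h2 : w * u * w * w = u * w := by rw [e, h1]
      rw [mul_assoc (w * u), h.base.mul_self hw, mul_one] at h2
      exact h2.symm
    exact hvw (h.trans hv hu hw huv.symm huw)
  · exact hvw (by rw [h.base.eq_of_conj_eq hu hv hw huv e.symm])

theorem W_line {x y v w : K} (hx : x ∈ X) (hy : y ∈ X) (hxy : ¬ Commute x y) (hv : v ∈ W X x y)
    (hw : w ∈ W X x y) (hne : v ≠ w) {a b : K} (ha : a ∈ W X x y) (hb : b ∈ W X x y) :
    a * b ∈ Subgroup.zpowers (v * w) := by
  set r := v * w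
  have hr : orderOf r = p := h.rot_order hx hy hxy hv hw hne
  have hmem : ∀ j : ℕ, r ^ j * v * (r ^ j)⁻¹ ∈ W X x y := by
    intro j
    induction j with
    | zero => simpa using hv
    | succ j ih =>
      have := h.W_conj hx hy (h.rot_mem_St hx hy hv hw).1 (h.rot_mem_St hx hy hv hw).2 ih
      convert this using 1
      rw [pow_succ', mul_inv_rev]; simp only [r, mul_assoc]
  have hinj : Set.InjOn (fun j : ℕ => r ^ j * v * (r ^ j)⁻¹) (Set.Iio p) := by
    intro i hi j hj hij
    have key : ∀ j : ℕ, r ^ j * v * (r ^ j)⁻¹ = r ^ (2 * (j : ℤ)) * v := fun j => by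
      have := conj_by_zpow (h.base.inv v hv.1) (h.base.inv w hw.1) (j : ℤ) 0
      simpa [zpow_natCast] using this
    simp only [key] at hij
    have h1 := zpow_eq_zpow_iff_modEq.1 (mul_right_cancel hij)
    rw [hr] at h1
    have h2 : (p : ℤ) ∣ 2 * ((j : ℤ) - i) := by rw [mul_sub]; exact h1.dvd
    have h3 : (p : ℤ) ∣ (j : ℤ) - i := by
      rcases (Nat.prime_iff_prime_int.1 h.base.prime).dvd_or_dvd h2 with h4 | h4
      · exfalso
        have h5 : p ∣ 2 := by exact_mod_cast h4
        exact h.base.ne_two ((Nat.prime_dvd_prime_iff_eq h.base.prime Nat.prime_two).1 h5)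
      · exact h4
    have hi' : i < p := hi
    have hj' : j < p := hj
    have := Int.eq_zero_of_abs_lt_dvd h3 (by rw [abs_lt]; omega)
    omega
  have hsurj : ∀ c ∈ W X x y, ∃ j : ℕ, r ^ (2 * (j : ℤ)) * v = c := by
    intro c hc
    have heq : (fun j : ℕ => r ^ j * v * (r ^ j)⁻¹) '' Set.Iio p = W X x y := by
      refine Set.eq_of_subset_of_ncard_le (Set.image_subset_iff.2 fun j _ => hmem j) ?_ (Set.toFinite _)
      rw [hinj.ncard_image, h.W_ncard' hx hy hxy, Set.ncard_Iio_nat]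
    rw [← heq] at hc
    obtain ⟨j, -, rfl⟩ := hc
    refine ⟨j, ?_⟩
    have := conj_by_zpow (h.base.inv v hv.1) (h.base.inv w hw.1) (j : ℤ) 0
    simpa [zpow_natCast] using this.symm
  obtain ⟨i, rfl⟩ := hsurj a ha
  obtain ⟨j, rfl⟩ := hsurj b hb
  refine Subgroup.mem_zpowers_iff.2 ⟨2 * (i : ℤ) + -(2 * (j : ℤ)), ?_⟩
  have := zpow_mul_involution (h.base.inv v hv.1) (h.base.inv w hw.1) (2 * (j : ℤ))
  rw [this, show r ^ (2 * (i : ℤ)) * v * (v * r ^ (-(2 * (j : ℤ)))) =
    r ^ (2 * (i : ℤ)) * (v * v) * r ^ (-(2 * (j : ℤ))) by group, h.base.mul_self hv.1, mul_one, zpow_add]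

end Ctx

end CfsgLib.RankThreeInv
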