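import Mathlib
import Cfsg.Agent.Lib.RankThreeInv.Degenerate

/-!
The counting argument on the blocks which finishes the proof that no degenerate configuration exists.
-/

set_option autoImplicit false

namespace CfsgLib.RankThreeInv

open CfsgLib.Involutions MulAction

universe u

variable {K : Type u} [Group K] [Finite K] {p : ℕ} {X : Set K}

namespace Ctx

variable (h : Ctx p X)
include h

/-- Some rotation fixes no block. -/
theorem exists_fixed_point_free {x : K} (hx : x ∈ X) :
    ∃ y ∈ X, ¬ Commute x y ∧ ∀ z ∈ X, x * y ∉ St X z := by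
  by_contra hno
  push Not at hno
  obtain ⟨y₀, hy₀, hxy₀⟩ := h.exists_not_commute hx
  have hp1 : p - 1 < p := by have := h.base.prime.two_le; omega
  refine false_of_double_count (T := {z | z ∈ X ∧ ¬ Commute x z}) ⟨y₀, hy₀, hxy₀⟩
    (fun a z => x * a ∈ St X z) hp1 ?_ ?_
  · rintro a ⟨ha, hxa⟩
    obtain ⟨z, hz, hza⟩ := hno a ha hxa
    have hxz : ¬ Commute x z := by
      intro hc
      rw [← h.St_eq hx hz hc] at hza
      have : a ∈ St X x := by
        have := mul_mem (h.self_mem_St hx (Commute.refl x)) hza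
        rwa [h.base.mul_self_mul hx] at this
      exact hxa (h.commute_of_mem_St hx ha this).symm
    rw [← h.blk_ncard hz]
    refine Set.ncard_le_ncard (fun b hb => ⟨⟨hb.1, fun hc => hxz (h.trans hx hb.1 hz hc hb.2)⟩, ?_⟩)
      (Set.toFinite _)
    show x * a ∈ St X b
    rwa [h.St_eq hb.1 hz hb.2]
  · rintro b ⟨hb, hxb⟩
    have hb' := h.base.conj_self hx hb
    have hbb : ¬ Commute b (x * b * x) := fun hc => hxb (h.commute_of_mem_St hb hx (by
      rw [h.mem_St hb, h.base.inv_eq hx]; exact hc.symm))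
    have hxW : x ∈ W X b (x * b * x) := ⟨hx, Commute.refl _⟩
    have hsub : {a ∈ {z | z ∈ X ∧ ¬ Commute x z} | x * a ∈ St X b} ⊆ W X b (x * b * x) \ {x} := by
      rintro a ⟨⟨ha, hxa⟩, hab⟩
      refine ⟨⟨ha, ?_⟩, fun hax => hxa (by rw [Set.mem_singleton_iff.1 hax])⟩
      have := commute_conj x ((h.mem_St hb).1 hab)
      rw [mul_inv_rev, h.base.inv_eq hx, h.base.inv_eq ha] at this
      convert this using 1
      rw [show x * (x * a * b * (a * x)) * x = (x * x) * (a * b * a) * (x * x) by group,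
        h.base.mul_self hx, one_mul, mul_one]
    refine (Set.ncard_le_ncard hsub (Set.toFinite _)).trans (le_of_eq ?_)
    rw [Set.ncard_sdiff_singleton_of_mem hxW, h.W_ncard' hb hb' hbb]

omit [Finite K] in
theorem smul_mk_eq_iff {x₀ : K} (hx₀ : x₀ ∈ X) (r g : K) :
    r • (QuotientGroup.mk g : K ⧸ St X x₀) = QuotientGroup.mk g ↔ r ∈ St X (g * x₀ * g⁻¹) := by
  rw [MulAction.Quotient.smul_mk, smul_eq_mul, eq_comm, QuotientGroup.eq, h.mem_St hx₀,
    h.mem_St (h.base.conj g x₀ hx₀), ← Commute.conj_iff g]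
  have e : g * (g⁻¹ * (r * g) * x₀ * (g⁻¹ * (r * g))⁻¹) * g⁻¹ = r * (g * x₀ * g⁻¹) * r⁻¹ := by group
  rw [e]

omit [Finite K] in
theorem mk_eq_iff {x₀ : K} (hx₀ : x₀ ∈ X) (g k : K) :
    (QuotientGroup.mk g : K ⧸ St X x₀) = QuotientGroup.mk k ↔
      Commute (g * x₀ * g⁻¹) (k * x₀ * k⁻¹) := by
  rw [QuotientGroup.eq, h.mem_St hx₀, ← Commute.conj_iff g]
  have e : g * (g⁻¹ * k * x₀ * (g⁻¹ * k)⁻¹) * g⁻¹ = k * x₀ * k⁻¹ := by group
  rw [e]
  exact ⟨Commute.symm, Commute.symm⟩

/-- Every `p`-subgroup fixes a multiple of `p` blocks. -/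
theorem fixed_dvd {x₀ : K} (hx₀ : x₀ ∈ X) {A : Subgroup K} (hA : IsPGroup p A) :
    p ∣ {ω : K ⧸ St X x₀ | ∀ g ∈ A, g • ω = ω}.ncard := by
  have : Fact p.Prime := ⟨h.base.prime⟩
  obtain ⟨y, hy, hxy, hfix⟩ := h.exists_fixed_point_free hx₀
  have hr : orderOf (x₀ * y) = p := h.base.order hx₀ hy hxy
  have hRp : IsPGroup p (Subgroup.zpowers (x₀ * y)) :=
    IsPGroup.of_card (n := 1) (by rw [Nat.card_zpowers, hr, pow_one])
  have hempty : IsEmpty (fixedPoints (Subgroup.zpowers (x₀ * y)) (K ⧸ St X x₀)) := by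
    refine ⟨fun ⟨ω, hω⟩ => ?_⟩
    induction ω using QuotientGroup.induction_on with
    | H g =>
      exact hfix _ (h.base.conj g x₀ hx₀)
        ((h.smul_mk_eq_iff hx₀ _ g).1 (hω ⟨x₀ * y, Subgroup.mem_zpowers _⟩))
  have h0 := hRp.card_modEq_card_fixedPoints (K ⧸ St X x₀)
  rw [Nat.card_of_isEmpty (α := fixedPoints _ _)] at h0
  have h1 := (hA.card_modEq_card_fixedPoints (K ⧸ St X x₀)).symm.trans h0
  rw [Nat.modEq_zero_iff_dvd] at h1
  rw [← Nat.card_coe_set_eq]
  convert h1 using 1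
  exact Nat.card_congr (Equiv.setCongr (Set.ext fun ω =>
    ⟨fun hω g => hω g.1 g.2, fun hω g hg => hω ⟨g, hg⟩⟩))

omit h [Finite K] in
theorem zpowers_fix {x₀ r : K} {ω : K ⧸ St X x₀} (hr : r • ω = ω) :
    ∀ g ∈ Subgroup.zpowers r, g • ω = ω := fun g hg =>
  Subgroup.zpowers_le.2 (show r ∈ stabilizer K ω from hr) hg

theorem fixed_dvd_one {x₀ r : K} (hx₀ : x₀ ∈ X) (hr : orderOf r = p) :
    p ∣ {ω : K ⧸ St X x₀ | r • ω = ω}.ncard := by
  have : Fact p.Prime := ⟨h.base.prime⟩
  have hp : IsPGroup p (Subgroup.zpowers r) :=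
    IsPGroup.of_card (n := 1) (by rw [Nat.card_zpowers, hr, pow_one])
  have := h.fixed_dvd hx₀ hp
  convert this using 2
  exact Set.ext fun ω => ⟨fun hω => zpowers_fix hω, fun hω => hω r (Subgroup.mem_zpowers r)⟩

/-- The block, as a coset, of a member. -/
noncomputable def bl (x₀ z : K) : K ⧸ St X x₀ :=
  QuotientGroup.mk (Classical.epsilon fun g => g * x₀ * g⁻¹ = z)

omit [Finite K] in
theorem bl_eq_mk_iff {x₀ z : K} (hx₀ : x₀ ∈ X) (hz : z ∈ X) (g : K) :
    bl (X := X) x₀ z = QuotientGroup.mk g ↔ Commute z (g * x₀ * g⁻¹) := by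
  have := Classical.epsilon_spec (h.cls x₀ hx₀ z hz)
  rw [bl, h.mk_eq_iff hx₀, this]

omit [Finite K] in
theorem bl_smul_iff {x₀ z r : K} (hx₀ : x₀ ∈ X) (hz : z ∈ X) :
    r • bl (X := X) x₀ z = bl x₀ z ↔ r ∈ St X z := by
  have := Classical.epsilon_spec (h.cls x₀ hx₀ z hz)
  rw [bl, h.smul_mk_eq_iff hx₀, this]

/-- A second rotation at the block of `x`. -/
theorem exists_second {x y w w' : K} (hx : x ∈ X) (hy : y ∈ X) (hxy : ¬ Commute x y)
    (hw : w ∈ W X x y) (hw' : w' ∈ W X x y) (hne : w ≠ w') :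
    ∃ z ∈ X, w * w' ∈ St X z ∧ ¬ Commute x z ∧
      ∃ v ∈ W X x z, ∃ v' ∈ W X x z, v ≠ v' ∧ v * v' ∉ Subgroup.zpowers (w * w') := by
  set r := w * w'
  by_contra hno
  push Not at hno
  have hr : orderOf r = p := h.rot_order hx hy hxy hw hw' hne
  obtain ⟨hrx, hry⟩ := h.rot_mem_St hx hy hw hw'
  set I : Set K := {v | v ∈ X ∧ v * r * v⁻¹ = r⁻¹}
  have hIR : ∀ v ∈ I, r ∉ St X v := by
    rintro v ⟨hv, hvr⟩ hmem
    rw [h.mem_St hv] at hmem
    have hvr' : v * r⁻¹ * v⁻¹ = r := by
      rw [show v * r⁻¹ * v⁻¹ = (v * r * v⁻¹)⁻¹ by simp [mul_assoc], hvr, inv_inv]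
    have e : r * v * r⁻¹ = r ^ 2 * v := by
      have h3 : v * r⁻¹ = r * v := mul_inv_eq_iff_eq_mul.1 hvr'
      rw [mul_assoc r v, h3, pow_two, mul_assoc r r v]
    rw [e] at hmem
    refine h.base.not_four_of_order hr ?_
    have h5 : (r ^ 2 * v) * (r ^ 2 * v) = 1 := by
      rw [← e, conj_mul, h.base.mul_self hv, mul_one, mul_inv_cancel]
    have h4 : (r ^ 2 * v * v) ^ 2 = 1 := by
      rw [hmem.mul_pow, pow_two (r ^ 2 * v), h5, pow_two v, h.base.mul_self hv, one_mul]
    rw [mul_assoc, h.base.mul_self hv, mul_one, ← pow_mul] at h4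
    exact h4
  have hWI : ∀ z ∈ X, r ∈ St X z → ¬ Commute x z → ∀ v ∈ W X x z, v ∈ I := by
    intro z hz hrz hxz v hv
    obtain ⟨v', hv', hne'⟩ := h.exists_other hx hz hxz hv
    have hmem := hno z hz hrz hxz v hv v' hv' (Ne.symm hne')
    have h1 : v * v' ≠ 1 := fun hh => hne' (by
      rw [mul_eq_one_iff_eq_inv, h.base.inv_eq hv'.1] at hh; exact hh.symm)
    exact ⟨hv.1, Isolated.inv_of_mem_zpowers (left_inverts_prod (h.base.inv v hv.1) (h.base.inv v' hv'.1))
      (mem_zpowers_of_prime_order h.base.prime hr hmem h1)⟩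
  have hφ : ∀ v ∈ I, v * x * v ∈ X ∧ r ∈ St X (v * x * v) ∧ ¬ Commute x (v * x * v) := by
    rintro v ⟨hv, hvr⟩
    have hvinv := h.base.inv_eq hv
    refine ⟨h.base.conj_self hv hx, ?_, fun hc => ?_⟩
    · have := h.St_conj hx v (inv_mem hrx)
      rw [← hvr, hvinv, show v * (v * r * v) * v = (v * v) * r * (v * v) by group, h.base.mul_self hv,
        one_mul, mul_one] at this
      exact this
    · have hvx : v ∈ St X x := by rw [h.mem_St hx, hvinv]; exact hc.symm
      refine hIR v ⟨hv, hvr⟩ ?_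
      rwa [h.St_eq hv hx (h.commute_of_mem_St hx hv hvx)]
  -- count the inverting members block by block
  set S : Set (K ⧸ St X x) := {ω | r • ω = ω}
  have hpS : p ∣ S.ncard := h.fixed_dvd_one hx hr
  have hxS : bl (X := X) x x ∈ S := (h.bl_smul_iff hx hx).2 hrx
  have hcount : I.ncard = p * (S.ncard - 1) := by
    rw [← Set.ncard_sdiff_singleton_of_mem hxS]
    refine ncard_eq_mul_of_fibers (fun v => bl (X := X) x (v * x * v)) (fun v hv => ⟨?_, ?_⟩) ?_
    · obtain ⟨h1, h2, -⟩ := hφ v hv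
      exact (h.bl_smul_iff hx h1).2 h2
    · obtain ⟨h1, -, h3⟩ := hφ v hv
      intro hh
      have he := Classical.epsilon_spec (h.cls x hx x hx)
      have hh' : bl (X := X) x (v * x * v) = bl x x := hh
      have hh2 := hh'
      unfold bl at hh2
      rw [h.mk_eq_iff hx, Classical.epsilon_spec (h.cls x hx _ h1), he] at hh2
      exact h3 hh2.symm
    · rintro ω ⟨hωS, hωx⟩
      induction ω using QuotientGroup.induction_on with
      | H g =>
        set z := g * x * g⁻¹ with hzdef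
        have hz : z ∈ X := h.base.conj g x hx
        have hrz : r ∈ St X z := (h.smul_mk_eq_iff hx r g).1 hωS
        have hxz : ¬ Commute x z := fun hc => hωx ((h.bl_eq_mk_iff hx hx g).2 hc).symm
        rw [← h.W_ncard' hx hz hxz]
        congr 1
        ext v
        constructor
        · rintro ⟨hv, he⟩
          exact ⟨hv.1, (h.bl_eq_mk_iff hx (hφ v hv).1 g).1 he⟩
        · intro hv
          exact ⟨hWI z hz hrz hxz v hv, (h.bl_eq_mk_iff hx (h.base.conj_self hv.1 hx) g).2 hv.2⟩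
  obtain ⟨k, hk⟩ : ∃ k, I.ncard = p ^ k := by
    refine exists_ncard_eq_pow h.base.prime h.base.odd ⟨w, hWI y hy hry hxy w hw⟩
      (fun v hv => h.base.inv v hv.1) (fun v hv v' hv' hvv' => h.base.order hv.1 hv'.1 fun hc => ?_)
      (fun v hv v' hv' => ⟨h.base.conj_self hv.1 hv'.1, ?_⟩)
    · have hX := h.mul_mem_X hv.1 hv'.1 hc hvv'
      refine hIR v hv ?_
      rw [h.St_eq hv.1 hX ((Commute.refl v).mul_right hc), h.mem_St hX]
      have e : (v * v') * r * (v * v')⁻¹ = r := by
        calc (v * v') * r * (v * v')⁻¹ = v * (v' * r * v'⁻¹) * v⁻¹ := by group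
          _ = (v * r * v⁻¹)⁻¹ := by rw [hv'.2]; group
          _ = r := by rw [hv.2, inv_inv]
      have e2 : r * (v * v') * r⁻¹ = v * v' := by
        nth_rewrite 1 [← e]; group
      rw [e2]
    · calc (v * v' * v) * r * (v * v' * v)⁻¹ = v * (v' * (v * r * v⁻¹) * v'⁻¹) * v⁻¹ := by group
        _ = v * (v' * r * v'⁻¹)⁻¹ * v⁻¹ := by rw [hv.2]; group
        _ = r⁻¹ := by rw [hv'.2, inv_inv, hv.2]
  have hS1 : 1 ≤ S.ncard := (Set.ncard_pos (Set.toFinite _)).2 ⟨_, hxS⟩
  have hp3 := h.base.three_le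
  rcases k with _ | k
  · rw [hk, pow_zero] at hcount
    have hd : p ∣ 1 := hcount ▸ dvd_mul_right _ _
    exact h.base.prime.not_dvd_one hd
  · rw [hk, pow_succ'] at hcount
    have h2 := mul_left_cancel₀ h.base.prime.ne_zero hcount
    rcases k with _ | k
    · rw [pow_zero] at h2
      have h3 : S.ncard = 2 := by omega
      rw [h3] at hpS
      have := Nat.le_of_dvd (by norm_num) hpS
      omega
    · have hd : p ∣ S.ncard - 1 := h2 ▸ dvd_pow_self p (Nat.succ_ne_zero k)
      have hd1 := Nat.dvd_sub hpS hd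
      rw [show S.ncard - (S.ncard - 1) = 1 by omega] at hd1
      exact h.base.prime.not_dvd_one hd1

/-- The smallest configuration does not exist. -/
theorem false : False := by
  have : Fact p.Prime := ⟨h.base.prime⟩
  obtain ⟨x, hx, -, -, y, hy, -, -, hxy⟩ := h.ex
  have hWne : (W X x y).Nonempty := by
    rw [← Set.ncard_pos (Set.toFinite _), h.W_ncard' hx hy hxy]; exact h.base.prime.pos
  obtain ⟨w, hw⟩ := hWne
  obtain ⟨w', hw', hne'⟩ := h.exists_other hx hy hxy hw
  have hne : w ≠ w' := Ne.symm hne'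
  obtain ⟨z, hz, hrz, hxz, v, hv, v', hv', hvne, hnot⟩ := h.exists_second hx hy hxy hw hw' hne
  set r := w * w'
  set s := v * v'
  have hr : orderOf r = p := h.rot_order hx hy hxy hw hw' hne
  have hs : orderOf s = p := h.rot_order hx hz hxz hv hv' hvne
  have hrx := (h.rot_mem_St hx hy hw hw').1
  have hsx := (h.rot_mem_St hx hz hv hv').1
  have hrp : r ^ p = 1 := hr ▸ pow_orderOf_eq_one r
  have hsp : s ^ p = 1 := hs ▸ pow_orderOf_eq_one s
  have hrs : Commute r s := by
    refine commute_of_normalises h.base.prime hs hrp ?_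
    have := h.W_line hx hz hxz hv hv' hvne (h.W_conj hx hz hrx hrz hv) (h.W_conj hx hz hrx hrz hv')
    rwa [conj_mul] at this
  set A := Subgroup.zpowers r ⊔ Subgroup.zpowers s
  have hA : IsPGroup p A := by
    refine IsPGroup.to_sup_of_normal_right' (IsPGroup.of_card (n := 1) (by rw [Nat.card_zpowers, hr, pow_one]))
      (IsPGroup.of_card (n := 1) (by rw [Nat.card_zpowers, hs, pow_one])) ?_
    rw [Subgroup.zpowers_le, Subgroup.mem_normalizer_iff]
    intro n
    refine ⟨fun hn => ?_, fun hn => ?_⟩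
    · rw [(Isolated.commute_of_mem_zpowers hrs hn).eq, mul_inv_cancel_right]; exact hn
    · have hc := Isolated.commute_of_mem_zpowers hrs hn
      have h1 : n = r⁻¹ * (r * n * r⁻¹) * r := by group
      rw [h1, hc.inv_left.eq, inv_mul_cancel_right]
      exact hn
  set S : Set (K ⧸ St X x) := {ω | ∀ g ∈ A, g • ω = ω}
  have hpS : p ∣ S.ncard := h.fixed_dvd hx hA
  have hxS : bl (X := X) x x ∈ S := by
    have hle : A ≤ stabilizer K (bl (X := X) x x) := by
      rw [sup_le_iff, Subgroup.zpowers_le, Subgroup.zpowers_le]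
      exact ⟨(h.bl_smul_iff hx hx).2 hrx, (h.bl_smul_iff hx hx).2 hsx⟩
    exact fun g hg => hle hg
  -- attach to each fixed block the power of `r` agreeing with `s` on it
  have hsel : ∀ ω ∈ S, ∃ i : ℕ, ∃ z ∈ X, (i < p ∧ i ≠ 0) ∧ bl (X := X) x z = ω ∧
      ∀ b ∈ blk X z, Commute ((r ^ i)⁻¹ * s) b := by
    intro ω hω
    induction ω using QuotientGroup.induction_on with
    | H g =>
      set u := g * x * g⁻¹ with hudef
      have hu : u ∈ X := h.base.conj g x hx
      have hru : r ∈ St X u :=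
        (h.smul_mk_eq_iff hx r g).1 (hω r (Subgroup.mem_sup_left (Subgroup.mem_zpowers r)))
      have hsu : s ∈ St X u :=
        (h.smul_mk_eq_iff hx s g).1 (hω s (Subgroup.mem_sup_right (Subgroup.mem_zpowers s)))
      have hmem : ∀ t ∈ St X u, t * u * t⁻¹ ∈ blk X u := fun t ht =>
        ⟨h.base.conj t u hu, (h.mem_St hu).1 ht⟩
      have hw_ne : ¬ Commute r u := h.rot_ne hw.1 hw'.1 (h.W_order hx hy hxy hw hw' hne) hu
      have hinj : Set.InjOn (fun j : ℕ => r ^ j * u * (r ^ j)⁻¹) (Set.Iio p) := by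
        intro i hi j hj hij
        by_contra hij'
        apply hw_ne
        have hc : Commute (r ^ ((j : ℤ) - i)) u := by
          have h1 : r ^ (i : ℤ) * u * (r ^ (i : ℤ))⁻¹ = r ^ (j : ℤ) * u * (r ^ (j : ℤ))⁻¹ := by
            simpa [zpow_natCast] using hij
          refine (mul_inv_eq_iff_eq_mul.1 (?_ : _ = u))
          calc r ^ ((j : ℤ) - i) * u * (r ^ ((j : ℤ) - i))⁻¹
              = (r ^ (i : ℤ))⁻¹ * (r ^ (j : ℤ) * u * (r ^ (j : ℤ))⁻¹) * r ^ (i : ℤ) := by group
            _ = u := by rw [← h1]; group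
        refine (Isolated.commute_of_mem_zpowers hc.symm
          (mem_zpowers_of_prime_order h.base.prime hr (Subgroup.zpow_mem_zpowers r _) ?_)).symm
        intro h1
        rw [← orderOf_dvd_iff_zpow_eq_one, hr] at h1
        have hi' : i < p := hi
        have hj' : j < p := hj
        have := Int.eq_zero_of_abs_lt_dvd h1 (by rw [abs_lt]; omega)
        omega
      have heq : (fun j : ℕ => r ^ j * u * (r ^ j)⁻¹) '' Set.Iio p = blk X u := by
        refine Set.eq_of_subset_of_ncard_le (Set.image_subset_iff.2 fun j _ => hmem _ (pow_mem hru j))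
          ?_ (Set.toFinite _)
        rw [hinj.ncard_image, h.blk_ncard hu, Set.ncard_Iio_nat]
      obtain ⟨i, hip, hi⟩ : ∃ i ∈ Set.Iio p, r ^ i * u * (r ^ i)⁻¹ = s * u * s⁻¹ := by
        have := hmem s hsu
        rw [← heq] at this
        exact this
      set k := (r ^ i)⁻¹ * s
      have hku : Commute k u := by
        refine mul_inv_eq_iff_eq_mul.1 (?_ : _ = u)
        calc k * u * k⁻¹ = (r ^ i)⁻¹ * (s * u * s⁻¹) * r ^ i := by simp only [k]; group
          _ = u := by rw [← hi]; group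
      refine ⟨i, u, hu, ⟨hip, ?_⟩, (h.bl_eq_mk_iff hx hu g).2 (Commute.refl u), fun b hb => ?_⟩
      · rintro rfl
        refine h.rot_ne hv.1 hv'.1 (h.W_order hx hz hxz hv hv' hvne) hu ?_
        simpa [k] using hku
      · rw [← heq] at hb
        obtain ⟨j, -, rfl⟩ := hb
        have hkr : Commute k (r ^ j) :=
          (((Commute.refl r).pow_left i).inv_left.mul_left hrs.symm).pow_right j
        exact (hkr.mul_right hku).mul_right hkr.inv_right
  choose f z' hz' hf hbl hcomm using hsel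
  classical
  let F : K ⧸ St X x → ℕ := fun ω => if hω : ω ∈ S then f ω hω else 0
  have hle : S.ncard ≤ (Set.Ico 1 p).ncard := by
    refine Set.ncard_le_ncard_of_injOn F (fun ω hω => ?_) (fun ω hω ω' hω' he => ?_) (Set.toFinite _)
    · have := hf ω hω
      simp only [F, dif_pos hω, Set.mem_Ico]
      omega
    · simp only [F, dif_pos hω, dif_pos hω'] at he
      by_contra hne2
      set a := z' ω hω
      set c := z' ω' hω'
      have hac : ¬ Commute a c := by
        intro hc
        refine hne2 ?_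
        rw [← hbl ω hω, ← hbl ω' hω']
        unfold bl
        rw [h.mk_eq_iff hx, Classical.epsilon_spec (h.cls x hx a (hz' ω hω)),
          Classical.epsilon_spec (h.cls x hx c (hz' ω' hω'))]
        exact hc
      obtain ⟨b, hb, hab, habX⟩ := h.exists_partner (hz' ω hω)
      have hk1 : (r ^ f ω hω)⁻¹ * s ≠ 1 := by
        intro hh
        rw [inv_mul_eq_one] at hh
        exact hnot (hh ▸ Subgroup.npow_mem_zpowers r _)
      have h2 := hcomm ω' hω' c ⟨hz' ω' hω', Commute.refl c⟩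
      rw [← he] at h2
      exact h.loc hk1 (hz' ω hω) hb (hz' ω' hω') hab habX hac
        (hcomm ω hω a ⟨hz' ω hω, Commute.refl a⟩) (hcomm ω hω b ⟨hb, hab.symm⟩) h2
  rw [Set.ncard_Ico_nat] at hle
  have hpos : 0 < S.ncard := (Set.ncard_pos (Set.toFinite _)).2 ⟨_, hxS⟩
  have := Nat.le_of_dvd hpos hpS
  omega

end Ctx

/-- No finite group has a degenerate configuration. -/
theorem not_hasDegenerate {X : Set K} (hX : PSet p X) : ¬ HasDegenerate X := by
  suffices hmain : ∀ (n : ℕ) (K : Type u) [Group K] [Finite K], Nat.card K = n → ∀ X : Set K,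
      PSet p X → ¬ HasDegenerate X from hmain _ K rfl X hX
  clear hX X
  intro n
  induction n using Nat.strong_induction_on with
  | _ n ih =>
    intro K _ _ hn X hX hdeg
    have hsub : ∀ {X : Set K}, PSet p X → ∀ H : Subgroup K, ∀ a ∈ X, ∀ b ∈ X, ∀ y ∈ X, Commute a b →
        a * b ∈ X → ¬ Commute a y → a ∈ H → b ∈ H → y ∈ H → H = ⊤ := by
      intro X hX H a ha b hb y hy hab hc hay haH hbH hyH
      by_contra hH
      refine ih _ ?_ H rfl _ (hX.comap H) ⟨⟨a, haH⟩, ha, ⟨b, hbH⟩, hb, ⟨y, hyH⟩, hy, Subtype.ext hab.eq,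
        hc, fun hh => hay (congrArg Subtype.val hh.eq)⟩
      exact hn ▸ lt_of_le_of_ne (Subgroup.card_le_card_group H) fun hh => hH (Subgroup.eq_top_of_card_eq H hh)
    obtain ⟨a, ha, b, hb, y, hy, hab, hc, hay⟩ := hdeg
    set X' : Set K := conjugatesOf a
    have hmem : ∀ t ∈ X', t ∈ X := by
      intro t ht
      obtain ⟨g, rfl⟩ := isConj_iff.1 (show IsConj a t from ht)
      exact hX.conj g a ha
    have hX' : PSet p X' :=
      { prime := hX.prime
        odd := hX.odd
        inv := fun t ht => hX.inv t (hmem t ht)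
        conj := fun g t ht => (show IsConj a t from ht).trans (isConj_iff.2 ⟨g, rfl⟩)
        ord := fun t ht t' ht' => hX.ord t (hmem t ht) t' (hmem t' ht') }
    have haX : a ∈ X' := IsConj.refl a
    have hyX : y ∈ X' := hX.isConj ha hy hay
    have hyb : ¬ Commute y b := fun hh => by
      have := hX.commute_of_triangle hb ha hab.symm (hab.eq ▸ hc) hy hh
      exact hay this.symm
    have hbX : b ∈ X' := (show IsConj a y from hyX).trans (hX.isConj hy hb hyb)
    have hyc : ¬ Commute y (a * b) := fun hh => by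
      have h1 : a * b * a = b := by rw [hab.eq, mul_assoc, hX.mul_self ha, mul_one]
      exact hay (hX.commute_of_triangle hc ha ((Commute.refl a).mul_left hab.symm) (by rwa [h1]) hy hh).symm
    have hcX : a * b ∈ X' := (show IsConj a y from hyX).trans (hX.isConj hy hc hyc)
    refine Ctx.false (p := p) (X := X')
      { base := hX'
        cls := fun t ht t' ht' =>
          isConj_iff.1 ((show IsConj a t from ht).symm.trans (show IsConj a t' from ht'))
        ex := ⟨a, haX, b, hbX, y, hyX, hab, hcX, hay⟩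
        top := hsub hX'
        norm := ?_ }
    intro N hNn hN a ha b hb y hy hab hc hay
    by_contra hnot
    set f := QuotientGroup.mk' N
    have hf1 : ∀ g, f g = 1 ↔ g ∈ N := fun g => QuotientGroup.eq_one_iff g
    have hna := hX'.not_commute_map f ha hy hay (fun hh => hnot ((hf1 _).1 hh))
    have hfy : f y ≠ 1 := fun hh => hna (by rw [hh]; exact Commute.one_right _)
    have hfa : f a ≠ 1 := fun hh => hna (by rw [hh]; exact Commute.one_left _)
    have hne : ∀ t ∈ X', ¬ Commute t y → f t ≠ 1 := by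
      intro t ht hty hh
      have ho := orderOf_map_dvd f (t * y)
      rw [hX'.order ht hy hty, map_mul, hh, one_mul] at ho
      have h2 : orderOf (f y) = 2 := orderOf_eq_two_iff_mul.2
        ⟨hfy, by rw [← map_mul, hX'.mul_self hy, map_one]⟩
      rw [h2] at ho
      exact hX'.ne_two ((Nat.prime_dvd_prime_iff_eq Nat.prime_two hX'.prime).1 ho).symm
    have hfb : f b ≠ 1 := hne b hb fun hh => hay
      (hX'.commute_of_triangle hb ha hab.symm (hab.eq ▸ hc) hy hh.symm).symm
    have hfc : f (a * b) ≠ 1 := hne _ hc fun hh => hay (by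
      have h1 : a * b * a = b := by rw [hab.eq, mul_assoc, hX'.mul_self ha, mul_one]
      exact (hX'.commute_of_triangle hc ha ((Commute.refl a).mul_left hab.symm) (by rwa [h1]) hy hh.symm).symm)
    refine ih _ ?_ (K ⧸ N) rfl _ (hX'.map f (QuotientGroup.mk'_surjective N))
      ⟨f a, ⟨⟨a, ha, rfl⟩, hfa⟩, f b, ⟨⟨b, hb, rfl⟩, hfb⟩, f y, ⟨⟨y, hy, rfl⟩, hfy⟩, hab.map f,
        ⟨⟨a * b, hc, map_mul f a b⟩, by rwa [← map_mul]⟩, hna⟩
    rw [← hn, Subgroup.card_eq_card_quotient_mul_card_subgroup N]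
    exact lt_mul_of_one_lt_right Nat.card_pos ((Subgroup.one_lt_card_iff_ne_bot N).2 hN)

end CfsgLib.RankThreeInv
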