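import Mathlib
import Cfsg.Prelude.Def_SporadicB
import Cfsg.Agent.Lib.RankThreeInv.Count
import Cfsg.Agent.Lib.Involutions.BrauerSuzuki
import Cfsg.Agent.Lib.Involutions.BaerSuzuki
import Cfsg.Agent.Lib.PCore.Basic
import Cfsg.Agent.Lib.Structure.Subnormal
import Cfsg.Agent.Lib.PF.OddOrder

/-!
A generating class of involutions on which the group, without nontrivial solvable normal subgroup, has
rank three is a class of 3-transpositions.
-/

set_option autoImplicit false

namespace CfsgLib.RankThreeInv

open CfsgLib.Involutions Cfsg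

variable {G : Type*} [Group G] [Finite G] {p : ℕ} {D : Set G}

/-- The hypotheses available once the product orders are known to be two and a prime `p ≥ 5`. -/
structure Top (p : ℕ) (D : Set G) : Prop where
  base : PSet p D
  five : 5 ≤ p
  gen : Subgroup.closure D = ⊤
  cls : ∀ x ∈ D, ∀ y ∈ D, ∃ g : G, g * x * g⁻¹ = y
  sol : ∀ N : Subgroup G, N.Normal → Group.IsSolvable ↥N → N = ⊥
  partner : ∀ x ∈ D, ∃ z ∈ D, z ≠ x ∧ Commute x z
  noncentral : ∀ x ∈ D, ∃ y ∈ D, ¬ Commute x y
  nonempty : D.Nonempty
  transC : ∀ x ∈ D, ∀ d ∈ D, ∀ e ∈ D, d ≠ x → e ≠ x → Commute x d → Commute x e →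
    ∃ g : G, Commute g x ∧ g * d * g⁻¹ = e

/-- A commuting triple modulo a central element together with a member outside gives a contradiction. -/
theorem apply_degenerate (hD : PSet p D) {τ a b c y : G} (hτ : τ * τ = 1) (ha : a ∈ D) (hb : b ∈ D)
    (hc : c ∈ D) (hy : y ∈ D) (haτ : Commute a τ) (hbτ : Commute b τ) (hcτ : Commute c τ)
    (hyτ : Commute y τ) (ha1 : a ≠ τ) (hb1 : b ≠ τ) (hc1 : c ≠ τ) (hab : Commute a b)
    (he : a * b = c ∨ a * b = c * τ) (hay : ¬ Commute a y) : False := by
  set H := Subgroup.centralizer ({τ} : Set G)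
  have hmem : ∀ {t : G}, Commute t τ → t ∈ H := fun ht =>
    Subgroup.mem_centralizer_singleton_iff.2 ht.eq
  set τ' : H := ⟨τ, hmem (Commute.refl τ)⟩
  have hN : (Subgroup.zpowers τ').Normal := ⟨fun n hn g => by
    have hc : Commute g τ' := Subtype.ext (Subgroup.mem_centralizer_singleton_iff.1 g.2)
    obtain ⟨i, rfl⟩ := Subgroup.mem_zpowers_iff.1 hn
    rw [(hc.zpow_right i).eq, mul_inv_cancel_right]
    exact Subgroup.zpow_mem_zpowers τ' i⟩
  set f := QuotientGroup.mk' (Subgroup.zpowers τ')
  have hτ' : τ' ^ 2 = 1 := Subtype.ext (by rw [pow_two]; exact hτ)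
  have hker : ∀ t : H, f t = 1 → (t : G) = 1 ∨ (t : G) = τ := by
    intro t ht
    obtain ⟨i, rfl⟩ := Subgroup.mem_zpowers_iff.1 ((QuotientGroup.eq_one_iff t).1 ht)
    obtain ⟨j, rfl | rfl⟩ := Int.even_or_odd' i
    · left; rw [zpow_mul, zpow_two, ← pow_two, hτ', one_zpow]; rfl
    · right; rw [zpow_add, zpow_mul, zpow_two, ← pow_two, hτ', one_zpow, one_mul, zpow_one]
  have hX := hD.comap H
  set a' : H := ⟨a, hmem haτ⟩
  set b' : H := ⟨b, hmem hbτ⟩
  set c' : H := ⟨c, hmem hcτ⟩
  set y' : H := ⟨y, hmem hyτ⟩
  have hne : ∀ {t : H}, (t : G) ∈ D → (t : G) ≠ τ → f t ≠ 1 := fun ht h1 h2 =>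
    (hker _ h2).elim (hD.ne_one ht) h1
  have hay' : ¬ Commute a' y' := fun hh => hay (congrArg Subtype.val hh.eq)
  have hfay := hX.not_commute_map f (x := a') (y := y') ha hy hay' fun hh => by
    have h3 := hD.order ha hy hay
    rcases hker _ hh with h1 | h1 <;> change a * y = _ at h1
    · rw [h1, orderOf_one] at h3; exact hD.prime.one_lt.ne h3
    · exact hD.not_sq_of_order h3 (by rw [h1, hτ])
  have hfab : f a' * f b' = f c' := by
    rw [← map_mul]
    rcases he with he | he
    · exact congrArg f (Subtype.ext he)
    · rw [show a' * b' = c' * τ' from Subtype.ext he, map_mul,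
        (QuotientGroup.eq_one_iff τ').2 (Subgroup.mem_zpowers τ')|> fun h => (show f τ' = 1 from h), mul_one]
  refine not_hasDegenerate (hX.map f (QuotientGroup.mk'_surjective _))
    ⟨f a', ⟨⟨a', ha, rfl⟩, hne ha ha1⟩, f b', ⟨⟨b', hb, rfl⟩, hne hb hb1⟩, f y',
      ⟨⟨y', hy, rfl⟩, fun hh => hfay (by rw [show f y' = 1 from hh]; exact Commute.one_right _)⟩,
      (show Commute a' b' from Subtype.ext hab.eq).map f, ?_, hfay⟩
  rw [hfab]
  exact ⟨⟨c', hc, rfl⟩, hne hc hc1⟩

namespace Top

variable (h : Top p D)
include h

/-- A member commuting with a product of two commuting members commutes with both. -/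
theorem split {x z d : G} (hx : x ∈ D) (hz : z ∈ D) (hne : x ≠ z) (hxz : Commute x z) (hd : d ∈ D)
    (hc : Commute d (x * z)) : Commute d x ∧ Commute d z := by
  have e : x * d * x = z * d * z := by
    calc x * d * x = x * (d * (x * z)) * z := by
          rw [show x * (d * (x * z)) * z = x * d * x * (z * z) by group, h.base.mul_self hz, mul_one]
      _ = x * (x * z * d) * z := by rw [hc.eq]
      _ = z * d * z := by rw [show x * (x * z * d) * z = (x * x) * (z * d * z) by group,
          h.base.mul_self hx, one_mul]
  have hdx : Commute d x := by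
    by_contra hdx
    exact hne (h.base.eq_of_conj_eq hd hx hz hdx e)
  refine ⟨hdx, ?_⟩
  by_contra hdz
  exact hne (h.base.eq_of_conj_eq hd hz hx hdz e.symm).symm

omit [Finite G] in
theorem mid_centralises {e y m : G} (hm : m ∈ D) (he2 : e * e = 1)
    (hem : Commute e m) (hmid : m * y * m = e * y * e) :
    Commute y (e * m) ∧ (e * m) * (e * m) = 1 := by
  have hsq : (e * m) * (e * m) = 1 := by
    rw [← pow_two, hem.mul_pow, pow_two, pow_two, he2, h.base.mul_self hm, one_mul]
  refine ⟨?_, hsq⟩
  have hinv : (e * m)⁻¹ = e * m := inv_eq_of_mul_eq_one_right hsq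
  have key : (e * m) * y * (e * m)⁻¹ = y := by
    rw [hinv]
    calc e * m * y * (e * m) = e * m * y * (m * e) := by rw [hem.eq]
      _ = e * (m * y * m) * e := by group
      _ = (e * e) * y * (e * e) := by rw [hmid]; group
      _ = y := by rw [he2, one_mul, mul_one]
  exact (mul_inv_eq_iff_eq_mul.1 key).symm

/-- The second case: some member commuting with `x` fails to commute with another one. -/
theorem case_two (hc2 : ∀ x ∈ D, ∀ z ∈ D, z ≠ x → Commute x z →
    ∃ v ∈ D, v ≠ x ∧ Commute x v ∧ ¬ Commute z v) : False := by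
  have key : ∀ x ∈ D, ∀ z ∈ D, x ≠ z → Commute x z → ∀ y ∈ D, Commute y x ∨ Commute y z := by
    intro x hx z hz hne hxz y hy
    by_contra hno
    push Not at hno
    obtain ⟨hyx, hyz⟩ := hno
    set e := x * z with hedef
    have he2 : e * e = 1 := by
      rw [← pow_two, hxz.mul_pow, pow_two, pow_two, h.base.mul_self hx, h.base.mul_self hz, one_mul]
    have heinv : e⁻¹ = e := inv_eq_of_mul_eq_one_right he2
    have hu : e * y * e ∈ D := by have := h.base.conj e y hy; rwa [heinv] at this
    set u := e * y * e with hudef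
    have heu : e * u * e = y := by
      rw [hudef, show e * (e * y * e) * e = (e * e) * y * (e * e) by group, he2, one_mul, mul_one]
    have hyu : y ≠ u := fun hh => by
      have hc : Commute y e := by
        have h1 : e * y = e * u := congrArg (e * ·) hh
        rw [hudef, show e * (e * y * e) = (e * e) * (y * e) by group, he2, one_mul] at h1
        exact h1.symm
      exact hyx (h.split hx hz hne hxz hy hc).1
    by_cases hcu : Commute y u
    · -- the two points commute
      have hswap : Commute e (y * u) := by
        refine mul_inv_eq_iff_eq_mul.1 (?_ : _ = y * u)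
        rw [heinv, show e * (y * u) * e = (e * y * e) * (e⁻¹ * u * e) by group, heinv, heu, ← hudef, hcu.eq]
      set e' := y * u with he'def
      have hx2 := h.base.conj e' x hx
      have hz2 := h.base.conj e' z hz
      have hconje : e' * e * e'⁻¹ = e := by rw [← hswap.eq, mul_inv_cancel_right]
      set x2 := e' * x * e'⁻¹ with hx2def
      set z2 := e' * z * e'⁻¹ with hz2def
      have hx2z2 : x2 * z2 = x * z := by rw [hx2def, hz2def, conj_mul]; exact hconje
      have hex : Commute x e := (Commute.refl x).mul_right hxz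
      have hez : Commute z e := hxz.symm.mul_right (Commute.refl z)
      have hx2c : Commute x2 e := by have := commute_conj e' hex; rwa [hconje] at this
      have hz2c : Commute z2 e := by have := commute_conj e' hez; rwa [hconje] at this
      obtain ⟨hx2x, hx2z⟩ := h.split hx hz hne hxz hx2 hx2c
      obtain ⟨hz2x, -⟩ := h.split hx hz hne hxz hz2 hz2c
      have hx2ne : x2 ≠ x := fun hh => hyx (h.split hy hu hyu hcu hx
        (mul_inv_eq_iff_eq_mul.1 (hx2def ▸ hh : e' * x * e'⁻¹ = x)).symm).1.symm
      by_cases hx2z' : x2 = z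
      · have hp1 : y * x * y = u * z * u := by
          calc y * x * y = (y * y) * 1 * (y * x * y) := by rw [h.base.mul_self hy, mul_one, one_mul]
            _ = u * (u * y * x * y * u) * u := by
                rw [show u * (u * y * x * y * u) * u = (u * u) * (y * x * y) * (u * u) by group,
                  h.base.mul_self hu, h.base.mul_self hy]
                simp only [one_mul, mul_one]
            _ = u * x2 * u := by
                rw [hx2def, he'def, hcu.eq, mul_inv_rev, h.base.inv_eq hy, h.base.inv_eq hu]
                group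
            _ = u * z * u := by rw [hx2z']
        have hp2 : x * y * x = z * u * z := by
          rw [hudef, show z * (e * y * e) * z = (z * e) * y * (e * z) by group,
            show e * z = x * (z * z) by rw [hedef, mul_assoc], hez.eq,
            show e * z = x * (z * z) by rw [hedef, mul_assoc], h.base.mul_self hz, mul_one]
        have hcube : (x * y) ^ 3 = (z * u) ^ 3 := by
          calc (x * y) ^ 3 = (x * y * x) * (y * x * y) := by simp only [pow_succ, pow_zero]; group
            _ = (z * u * z) * (u * z * u) := by rw [hp1, hp2]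
            _ = (z * u) ^ 3 := by simp only [pow_succ, pow_zero]; group
        have huz : ¬ Commute z u := fun hh => hyz (by
          have h1 := commute_conj e hh.symm
          rw [heinv, heu, ← hez.eq, mul_assoc, he2, mul_one] at h1
          exact h1)
        have hxy1 := h.base.pow_eq_one hx hy fun hh => hyx hh.symm
        have hzu1 := h.base.pow_eq_one hz hu huz
        have hcop : Nat.Coprime 3 p := (Nat.coprime_primes Nat.prime_three h.base.prime).2 (by
          have := h.five; omega)
        obtain ⟨k, -, hk⟩ := Nat.exists_mul_mod_eq_one_of_coprime hcop h.base.prime.one_lt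
        have hrec : ∀ t : G, t ^ p = 1 → (t ^ 3) ^ k = t := fun t ht => by
          rw [← pow_mul, pow_eq_pow_mod _ ht, hk, pow_one]
        have heq : x * y = z * u := by rw [← hrec _ hxy1, ← hrec _ hzu1, hcube]
        have h1 : x * y = x * y * (x * z) := by
          conv_lhs => rw [heq, hudef]
          rw [show z * (e * y * e) = (z * e) * y * e by group, hez.eq,
            show e * z = x * (z * z) by rw [hedef, mul_assoc], h.base.mul_self hz, mul_one]
        have h2 : x * z = 1 := mul_eq_left.1 h1.symm
        rw [mul_eq_one_iff_eq_inv, h.base.inv_eq hz] at h2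
        exact hne h2
      · have hz2ne : z2 ≠ x := fun hh => hx2z' (by
          have h1 := hx2z2
          rw [hh, hxz.eq] at h1
          exact mul_right_cancel h1)
        obtain ⟨v, hv, -, hxv, hzv⟩ := hc2 x hx z hz (Ne.symm hne) hxz
        refine apply_degenerate h.base (τ := x) (a := z) (b := x2) (c := z2) (h.base.mul_self hx) hz hx2
          hz2 hv hxz.symm hx2x hz2x hxv.symm (Ne.symm hne) hx2ne hz2ne hx2z.symm (Or.inr ?_) hzv
        have h1 : x2 = x * z * z2 := by
          rw [← hx2z2, mul_assoc, h.base.mul_self hz2, mul_one]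
        rw [h1, show z * (x * z * z2) = (z * x) * z * z2 by group, ← hxz.eq, mul_assoc x z z,
          h.base.mul_self hz, mul_one]
        exact hz2x.symm.eq
    · -- the two points have a midpoint
      obtain ⟨m, hm, hmid⟩ := h.base.exists_mid hy hu hcu
      have hem : Commute e m :=
        h.base.commute_mid hy hm hcu hmid (by rw [heinv, hudef]) (by rw [heinv]; exact heu)
      obtain ⟨hmx, hmz⟩ := h.split hx hz hne hxz hm hem.symm
      obtain ⟨hyτ, hτ⟩ := h.mid_centralises hm he2 hem (hmid.trans hudef)
      have hex : Commute x e := (Commute.refl x).mul_right hxz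
      have hez : Commute z e := hxz.symm.mul_right (Commute.refl z)
      have hzm : z ≠ m := fun hh => hyx (by
        rw [← hh, hudef, hedef] at hmid
        have h2 : z * (x * y * x) * z = z * y * z := by
          rw [hmid]
          calc z * (x * y * x) * z = (z * x) * y * (x * z) := by group
            _ = x * z * y * (x * z) := by rw [hxz.eq]
        have h3 : x * y * x = y := mul_left_cancel (mul_right_cancel h2)
        have h4 : x * y * x * x = y * x := by rw [h3]
        rw [mul_assoc (x * y), h.base.mul_self hx, mul_one] at h4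
        exact h4.symm)
      have hxm : x ≠ m := fun hh => hyz (by
        rw [← hh, hudef, hedef] at hmid
        have h2 : x * (z * y * z) * x = x * y * x := by
          rw [hmid]
          calc x * (z * y * z) * x = (x * z) * y * (z * x) := by group
            _ = x * z * y * (x * z) := by rw [hxz.eq]
        have h3 : z * y * z = y := mul_left_cancel (mul_right_cancel h2)
        have h4 : z * y * z * z = y * z := by rw [h3]
        rw [mul_assoc (z * y), h.base.mul_self hz, mul_one] at h4
        exact h4.symm)
      refine apply_degenerate h.base (τ := e * m) (a := x) (b := z) (c := m) hτ hx hz hm hy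
        (hex.mul_right hmx.symm) (hez.mul_right hmz.symm) (hem.symm.mul_right (Commute.refl m)) hyτ
        ?_ ?_ ?_ hxz (Or.inr ?_) (fun hh => hyx hh.symm)
      · intro hh
        apply hzm
        rw [hedef, mul_assoc, left_eq_mul, mul_eq_one_iff_eq_inv, h.base.inv_eq hm] at hh
        exact hh
      · intro hh
        apply hxm
        rw [hedef, hxz.eq, mul_assoc, left_eq_mul, mul_eq_one_iff_eq_inv, h.base.inv_eq hm] at hh
        exact hh
      · intro hh
        rw [right_eq_mul, hedef, mul_eq_one_iff_eq_inv, h.base.inv_eq hz] at hh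
        exact hne hh
      · rw [← mul_assoc, ← hem.eq, mul_assoc, h.base.mul_self hm, mul_one]
  -- not commuting or equal is an equivalence fixed by every member
  let E : G → G → Prop := fun x y => x = y ∨ ¬ Commute x y
  have hE : ∀ {x y z : G}, x ∈ D → y ∈ D → z ∈ D → E x y → E y z → E x z := by
    intro x y z hx hy hz h1 h2
    rcases h1 with rfl | h1
    · exact h2
    rcases h2 with rfl | h2
    · exact Or.inr h1
    by_contra hno
    simp only [E, not_or, not_not] at hno
    rcases key x hx z hz hno.1 hno.2 y hy with h3 | h3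
    · exact h1 h3.symm
    · exact h2 h3
  have hconjE : ∀ g x y : G, E x y → E (g * x * g⁻¹) (g * y * g⁻¹) := fun g x y h1 =>
    h1.imp (fun hh => by rw [hh]) fun hh hc => hh ((Commute.conj_iff g).1 hc)
  have hall : ∀ g : G, ∀ x ∈ D, E (g * x * g⁻¹) x := by
    intro g
    have hg : g ∈ Subgroup.closure D := h.gen ▸ Subgroup.mem_top g
    induction hg using Subgroup.closure_induction with
    | mem d hd =>
      intro x hx
      by_cases hc : Commute d x
      · exact Or.inl (by rw [hc.eq, mul_inv_cancel_right])
      refine Or.inr fun h1 => h.base.not_four_of_order (h.base.order hd hx hc) ?_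
      have h2 : (d * x) ^ 2 = (d * x * d⁻¹) * x := by rw [h.base.inv_eq hd, pow_two, ← mul_assoc]
      rw [show (4 : ℕ) = 2 * 2 from rfl, pow_mul, h2, h1.mul_pow, pow_two, pow_two,
        h.base.mul_self (h.base.conj d x hx), h.base.mul_self hx, one_mul]
    | one => intro x _; exact Or.inl (by simp)
    | mul a b _ _ iha ihb =>
      intro x hx
      have h1 := hconjE a _ _ (ihb x hx)
      rw [show a * (b * x * b⁻¹) * a⁻¹ = a * b * x * (a * b)⁻¹ by group] at h1
      exact hE (h.base.conj _ x hx) (h.base.conj a x hx) hx h1 (iha x hx)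
    | inv a _ iha =>
      intro x hx
      have h1 := iha _ (h.base.conj a⁻¹ x hx)
      rw [show a * (a⁻¹ * x * a⁻¹⁻¹) * a⁻¹ = x by group] at h1
      exact h1.imp Eq.symm fun hh hc => hh hc.symm
  obtain ⟨d, hd⟩ := h.nonempty
  obtain ⟨z, hz, hne, hc⟩ := h.partner d hd
  obtain ⟨g, hg⟩ := h.cls d hd z hz
  rcases hall g d hd with h1 | h1
  · exact hne (hg ▸ h1)
  · exact h1 (hg ▸ hc.symm)

/-- The first case: commuting is transitive. -/
theorem case_one (htr : ∀ x ∈ D, ∀ u ∈ D, ∀ v ∈ D, Commute x u → Commute x v → Commute u v) :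
    False := by
  have hfix : ∀ x ∈ D, ∀ z ∈ D, Commute x z → ∀ y ∈ D,
      Commute (x * z * y * (x * z)⁻¹) y := by
    intro x hx z hz hxz y hy
    by_contra hcu
    have hne : x ≠ z := fun hh => hcu (by simp [hh, h.base.mul_self hz])
    set e := x * z with hedef
    have he2 : e * e = 1 := by
      rw [← pow_two, hxz.mul_pow, pow_two, pow_two, h.base.mul_self hx, h.base.mul_self hz, one_mul]
    have heinv : e⁻¹ = e := inv_eq_of_mul_eq_one_right he2
    have hu := h.base.conj e y hy
    rw [heinv] at hu hcu
    obtain ⟨m, hm, hmid⟩ := h.base.exists_mid hy hu (fun hh => hcu hh.symm)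
    have hback : e * (e * y * e) * e⁻¹ = y := by
      rw [heinv, show e * (e * y * e) * e = (e * e) * y * (e * e) by group, he2, one_mul, mul_one]
    have hem : Commute e m :=
      h.base.commute_mid hy hm (fun hh => hcu hh.symm) hmid (by rw [heinv]) hback
    obtain ⟨hmx, hmz⟩ := h.split hx hz hne hxz hm hem.symm
    obtain ⟨hyτ, hτ⟩ := h.mid_centralises hm he2 hem hmid
    have hex : Commute x e := (Commute.refl x).mul_right hxz
    have hez : Commute z e := hxz.symm.mul_right (Commute.refl z)
    have hxy : ¬ Commute x y := fun hh => hcu (by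
      have h1 : Commute z y := htr x hx z hz y hy hxz hh
      have h2 : e * y = y * e := (Commute.mul_left hh h1).eq
      rw [h2, mul_assoc, he2, mul_one])
    have hzy : ¬ Commute z y := fun hh => hxy (htr z hz x hx y hy hxz.symm hh)
    refine apply_degenerate h.base (τ := e * m) (a := x) (b := z) (c := m) hτ hx hz hm hy
      (hex.mul_right hmx.symm) (hez.mul_right hmz.symm) (hem.symm.mul_right (Commute.refl m)) hyτ
      ?_ ?_ ?_ hxz (Or.inr ?_) hxy
    · intro hh
      rw [hedef, mul_assoc, left_eq_mul, mul_eq_one_iff_eq_inv, h.base.inv_eq hm] at hh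
      rw [← hh, hedef] at hmid
      apply hxy
      have h2 : z * (x * y * x) * z = z * y * z := by
        rw [hmid]
        calc z * (x * y * x) * z = (z * x) * y * (x * z) := by group
          _ = x * z * y * (x * z) := by rw [hxz.eq]
      have h3 : x * y * x = y := mul_left_cancel (mul_right_cancel h2)
      have h4 : x * y * x * x = y * x := by rw [h3]
      rw [mul_assoc (x * y), h.base.mul_self hx, mul_one] at h4
      exact h4
    · intro hh
      rw [hedef, hxz.eq, mul_assoc, left_eq_mul, mul_eq_one_iff_eq_inv, h.base.inv_eq hm] at hh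
      rw [← hh, hedef] at hmid
      apply hzy
      have h2 : x * (z * y * z) * x = x * y * x := by
        rw [hmid]
        calc x * (z * y * z) * x = (x * z) * y * (z * x) := by group
          _ = x * z * y * (x * z) := by rw [hxz.eq]
      have h3 : z * y * z = y := mul_left_cancel (mul_right_cancel h2)
      have h4 : z * y * z * z = y * z := by rw [h3]
      rw [mul_assoc (z * y), h.base.mul_self hz, mul_one] at h4
      exact h4
    · intro hh
      rw [right_eq_mul, hedef, mul_eq_one_iff_eq_inv, h.base.inv_eq hz] at hh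
      exact hne hh
    · rw [← mul_assoc, ← hem.eq, mul_assoc, h.base.mul_self hm, mul_one]
  -- the products of commuting members generate a solvable normal subgroup
  set gens : Set G := {g | ∃ x ∈ D, ∃ z ∈ D, Commute x z ∧ g = x * z}
  set N := Subgroup.closure gens
  have hgn : ∀ g : G, ∀ t ∈ gens, g * t * g⁻¹ ∈ gens := by
    rintro g _ ⟨x, hx, z, hz, hxz, rfl⟩
    exact ⟨_, h.base.conj g x hx, _, h.base.conj g z hz, commute_conj g hxz, conj_mul.symm⟩
  have hNn : N.Normal := ⟨fun n hn g => by
    have hle : N ≤ N.comap (MulAut.conj g).toMonoidHom := by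
      rw [Subgroup.closure_le]
      exact fun t ht => Subgroup.subset_closure (hgn g t ht)
    exact hle hn⟩
  have htrans : ∀ {a b c : G}, a ∈ D → b ∈ D → c ∈ D → Commute a b → Commute b c → Commute a c :=
    fun ha hb hc h1 h2 => htr _ hb _ ha _ hc h1.symm h2
  have hNfix : ∀ n ∈ N, ∀ y ∈ D, Commute (n * y * n⁻¹) y := by
    intro n hn
    induction hn using Subgroup.closure_induction with
    | mem t ht =>
      obtain ⟨x, hx, z, hz, hxz, rfl⟩ := ht
      exact hfix x hx z hz hxz
    | one => intro y _; simp
    | mul a b _ _ iha ihb =>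
      intro y hy
      refine htrans (h.base.conj _ y hy) (h.base.conj a y hy) hy ?_ (iha y hy)
      simpa [mul_assoc] using commute_conj a (ihb y hy)
    | inv a _ iha =>
      intro y hy
      have h1 := iha _ (h.base.conj a⁻¹ y hy)
      rw [show a * (a⁻¹ * y * a⁻¹⁻¹) * a⁻¹ = y by group] at h1
      exact h1.symm
  let Z : G → Subgroup N := fun y =>
    (Subgroup.closure {g | ∃ x ∈ D, ∃ z ∈ D, Commute x y ∧ Commute z y ∧ g = x * z}).subgroupOf N
  have hZn : ∀ y ∈ D, (Z y).Normal ∧ Group.IsSolvable (Z y) := by
    intro y hy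
    set S : Set G := {g | ∃ x ∈ D, ∃ z ∈ D, Commute x y ∧ Commute z y ∧ g = x * z}
    have hSc : ∀ s ∈ S, ∀ t ∈ S, s * t = t * s := by
      rintro _ ⟨a, ha, b, hb, hay, hby, rfl⟩ _ ⟨c, hc, d, hd, hcy, hdy, rfl⟩
      have h1 : ∀ {s t : G}, s ∈ D → t ∈ D → Commute s y → Commute t y → Commute s t :=
        fun hs ht h1 h2 => htr y hy _ hs _ ht h1.symm h2.symm
      exact (((h1 ha hc hay hcy).mul_right (h1 ha hd hay hdy)).mul_left
        ((h1 hb hc hby hcy).mul_right (h1 hb hd hby hdy))).eq
    constructor
    · refine ⟨fun z hz n => ?_⟩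
      change (n : G) * z * (n : G)⁻¹ ∈ Subgroup.closure S
      have hle : Subgroup.closure S ≤ (Subgroup.closure S).comap (MulAut.conj (n : G)).toMonoidHom := by
        rw [Subgroup.closure_le]
        rintro _ ⟨a, ha, b, hb, hay, hby, rfl⟩
        refine Subgroup.subset_closure ⟨_, h.base.conj _ a ha, _, h.base.conj _ b hb, ?_, ?_, conj_mul.symm⟩
        · exact htrans (h.base.conj _ a ha) ha hy (hNfix _ n.2 a ha) hay
        · exact htrans (h.base.conj _ b hb) hb hy (hNfix _ n.2 b hb) hby
      exact hle hz
    · refine Group.isSolvable_of_comm fun a b => Subtype.ext (Subtype.ext ?_)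
      have hle : Subgroup.closure S ≤ Subgroup.centralizer S := by
        rw [Subgroup.closure_le]
        exact fun s hs t ht => hSc t ht s hs
      have hle2 : Subgroup.closure S ≤ Subgroup.centralizer ({((a : N) : G)} : Set G) := by
        rw [Subgroup.closure_le]
        exact fun s hs => Subgroup.mem_centralizer_singleton_iff.2 (hle a.2 s hs)
      exact (Subgroup.mem_centralizer_singleton_iff.1 (hle2 b.2)).symm
  have hNsol : Group.IsSolvable N := by
    have hQ := CfsgLib.PCore.sSup_induction_normal (G := N) (fun A => Group.IsSolvable A)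
      inferInstance fun A B hA hB h1 h2 => by
        have := h1; have := h2
        exact CfsgLib.Structure.isSolvable_sup_of_le_normalizer Subgroup.le_normalizer_of_normal
    have htop : sSup {A : Subgroup N | A.Normal ∧ Group.IsSolvable A} = ⊤ := by
      refine top_unique ?_
      rw [← Subgroup.closure_closure_coe_preimage (k := gens), Subgroup.closure_le]
      rintro ⟨t, htN⟩ ⟨x, hx, z, hz, hxz, rfl⟩
      exact (le_sSup (α := Subgroup N) (show Z x ∈ _ from hZn x hx))
        (Subgroup.subset_closure ⟨x, hx, z, hz, Commute.refl x, hxz.symm, rfl⟩)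
    rw [htop] at hQ
    exact Group.isSolvable_of_surjective (f := (⊤ : Subgroup N).subtype) fun n => ⟨⟨n, Subgroup.mem_top n⟩, rfl⟩
  have hbot := h.sol N hNn hNsol
  obtain ⟨d, hd⟩ := h.nonempty
  obtain ⟨z, hz, hne, hc⟩ := h.partner d hd
  have h1 : d * z ∈ N := Subgroup.subset_closure ⟨d, hd, z, hz, hc, rfl⟩
  rw [hbot, Subgroup.mem_bot, mul_eq_one_iff_eq_inv, h.base.inv_eq hz] at h1
  exact hne h1.symm

end Top

end CfsgLib.RankThreeInv
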