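import Mathlib
import Cfsg.Prelude.Def_SporadicB
import Cfsg.Agent.Lib.RankThreeInv.Main

/-!
Reading off the product orders from rank three, and the final statement.
-/

set_option autoImplicit false

namespace CfsgLib.RankThreeInv

open CfsgLib.Involutions Cfsg

variable {G : Type*} [Group G] [Finite G]

theorem isThreeTranspositionClass_of_rankThree
    (hsol : ∀ N : Subgroup G, N.Normal → Group.IsSolvable ↥N → N = ⊥) {D : Set G}
    (hinv : ∀ d ∈ D, orderOf d = 2) (hconj : ∃ d ∈ D, D = conjugatesOf d)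
    (hgen : Subgroup.closure D = ⊤)
    (hrank : ∀ x ∈ D, ∃ y ∈ D, ∃ z ∈ D,
      D = {w : G | ∃ g : G, Commute g x ∧ g * x * g⁻¹ = w} ∪
          {w : G | ∃ g : G, Commute g x ∧ g * y * g⁻¹ = w} ∪
          {w : G | ∃ g : G, Commute g x ∧ g * z * g⁻¹ = w}) :
    Cfsg.IsThreeTranspositionClass D := by
  refine ⟨⟨hinv, ?_⟩, hconj, hgen⟩
  obtain ⟨d₀, hd₀, hD⟩ := hconj
  have hcl : ∀ g : G, ∀ x ∈ D, g * x * g⁻¹ ∈ D := fun g x hx => by
    rw [hD] at hx ⊢
    exact (show IsConj d₀ x from hx).trans (isConj_iff.2 ⟨g, rfl⟩)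
  have hcls : ∀ x ∈ D, ∀ y ∈ D, ∃ g : G, g * x * g⁻¹ = y := fun x hx y hy => by
    rw [hD] at hx hy
    exact isConj_iff.1 ((show IsConj d₀ x from hx).symm.trans hy)
  have hxx : ∀ x ∈ D, x * x = 1 := fun x hx => mul_self_eq_one (hinv x hx)
  -- no member is central
  have hncent : ∀ x ∈ D, ∃ y ∈ D, ¬ Commute x y := by
    intro x hx
    by_contra hno
    push Not at hno
    have hxZ : x ∈ Subgroup.center G := by
      rw [Subgroup.mem_center_iff]
      have hle : Subgroup.closure D ≤ Subgroup.centralizer ({x} : Set G) := by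
        rw [Subgroup.closure_le]
        exact fun y hy => Subgroup.mem_centralizer_singleton_iff.2 (hno y hy).eq.symm
      exact fun g => Subgroup.mem_centralizer_singleton_iff.1 (hle (hgen ▸ Subgroup.mem_top g))
    have hbot := hsol (Subgroup.center G) inferInstance
      (Group.isSolvable_of_comm fun a b => Subtype.ext (Subgroup.mem_center_iff.1 b.2 a))
    rw [hbot, Subgroup.mem_bot] at hxZ
    exact ne_one_of_involution (hinv x hx) hxZ
  -- the orbits
  have hmem : ∀ x ∈ D, ∃ y ∈ D, ∃ z ∈ D, ∀ d ∈ D, d ≠ x →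
      ∃ g : G, Commute g x ∧ (g * y * g⁻¹ = d ∨ g * z * g⁻¹ = d) := by
    intro x hx
    obtain ⟨y, hy, z, hz, he⟩ := hrank x hx
    refine ⟨y, hy, z, hz, fun d hd hdx => ?_⟩
    rw [he] at hd
    rcases hd with (⟨g, hg, rfl⟩ | ⟨g, hg, rfl⟩) | ⟨g, hg, rfl⟩
    · exact absurd (by rw [hg.eq, mul_inv_cancel_right]) hdx
    · exact ⟨g, hg, Or.inl rfl⟩
    · exact ⟨g, hg, Or.inr rfl⟩
  -- transitivity of the centraliser on the commuting members
  have htransC : ∀ x ∈ D, ∀ d ∈ D, ∀ e ∈ D, d ≠ x → e ≠ x → Commute x d → Commute x e →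
      ∃ g : G, Commute g x ∧ g * d * g⁻¹ = e := by
    intro x hx d hd e he hdx hex hcd hce
    obtain ⟨y, hy, z, hz, hor⟩ := hmem x hx
    have hback : ∀ {g w v : G}, Commute g x → g * w * g⁻¹ = v → (Commute x v ↔ Commute x w) := by
      intro g w v hg hw
      rw [← hw]
      conv_lhs => rw [show x = g * x * g⁻¹ by rw [hg.eq, mul_inv_cancel_right]]
      exact Commute.conj_iff g
    obtain ⟨g, hg, hgd⟩ := hor d hd hdx
    obtain ⟨k, hk, hke⟩ := hor e he hex
    have hcomp : ∀ {w : G}, g * w * g⁻¹ = d → k * w * k⁻¹ = e →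
        ∃ g : G, Commute g x ∧ g * d * g⁻¹ = e := fun {w} h1 h2 =>
      ⟨k * g⁻¹, hk.mul_left hg.inv_left, by rw [← h1, ← h2]; group⟩
    have hall : Commute x y → Commute x z → False := fun hxy hxz => by
      obtain ⟨w, hw, hnw⟩ := hncent x hx
      have hwx : w ≠ x := fun hh => hnw (hh ▸ Commute.refl _)
      obtain ⟨c, hc, hcw | hcw⟩ := hor w hw hwx
      · exact hnw ((hback hc hcw).2 hxy)
      · exact hnw ((hback hc hcw).2 hxz)
    rcases hgd with hgd | hgd <;> rcases hke with hke | hke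
    · exact hcomp hgd hke
    · exact (hall ((hback hg hgd).1 hcd) ((hback hk hke).1 hce)).elim
    · exact (hall ((hback hk hke).1 hce) ((hback hg hgd).1 hcd)).elim
    · exact hcomp hgd hke
  -- some two members commute
  have hpartner : ∀ x ∈ D, ∃ z ∈ D, z ≠ x ∧ Commute x z := by
    intro x hx
    by_contra hno
    push Not at hno
    have hiso : IsIsolatedInvolution x := ⟨hinv x hx, fun g hg => by
      by_contra hne
      exact hno _ (hcl g x hx) hne hg⟩
    have hz := CfsgLib.Involutions.zstar G x hiso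
    have : Fact (Nat.Prime 2) := ⟨Nat.prime_two⟩
    have hbot : pPrimeCore 2 G = ⊥ := hsol _ inferInstance (CfsgLib.PF.oddSolvable _ (by
      rw [← Nat.not_even_iff_odd, even_iff_two_dvd]
      exact CfsgLib.PCore.not_dvd_card_pPrimeCore))
    obtain ⟨y, -, hxy⟩ := hncent x hx
    have h1 := hz y
    rw [hbot, Subgroup.mem_bot, mul_inv_eq_one] at h1
    exact hxy (mul_inv_eq_iff_eq_mul.1 h1).symm
  obtain ⟨x₀, hx₀⟩ : D.Nonempty := ⟨d₀, hd₀⟩
  -- the two orders
  obtain ⟨a, b, hab⟩ : ∃ a b : ℕ, ∀ x ∈ D, ∀ d ∈ D, d ≠ x →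
      orderOf (x * d) = a ∨ orderOf (x * d) = b := by
    obtain ⟨y, hy, z, hz, hor⟩ := hmem x₀ hx₀
    refine ⟨orderOf (x₀ * y), orderOf (x₀ * z), fun x hx d hd hdx => ?_⟩
    obtain ⟨c, hc⟩ := hcls x₀ hx₀ x hx
    obtain ⟨g, hg, hgd⟩ := hor (c⁻¹ * d * c⁻¹⁻¹) (hcl c⁻¹ d hd) (fun hh => hdx (by
      rw [← hc, ← hh]; group))
    have key : ∀ w : G, g * w * g⁻¹ = c⁻¹ * d * c⁻¹⁻¹ → orderOf (x * d) = orderOf (x₀ * w) := by
      intro w hw
      rw [show x * d = (c * g) * (x₀ * w) * (c * g)⁻¹ by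
        calc x * d = (c * x₀ * c⁻¹) * (c * (c⁻¹ * d * c⁻¹⁻¹) * c⁻¹) := by rw [hc]; group
          _ = (c * (g * x₀ * g⁻¹) * c⁻¹) * (c * (g * w * g⁻¹) * c⁻¹) := by
            rw [hw, hg.eq, mul_inv_cancel_right]
          _ = _ := by group, orderOf_conj_eq]
    exact hgd.imp (key y) (key z)
  obtain ⟨y₀, hy₀, hxy₀⟩ := hncent x₀ hx₀
  set q := orderOf (x₀ * y₀) with hq
  have hord2 : ∀ x ∈ D, ∀ d ∈ D, ¬ Commute x d → orderOf (x * d) ≠ 1 ∧ orderOf (x * d) ≠ 2 := by
    intro x hx d hd hnc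
    refine ⟨fun h1 => hnc ?_, fun h2 => hnc ?_⟩
    · rw [orderOf_eq_one_iff] at h1
      exact commute_of_mul_sq (hxx x hx) (hxx d hd) (by rw [h1, one_mul])
    · exact commute_of_mul_sq (hxx x hx) (hxx d hd) (mul_self_eq_one h2)
  have hordq : ∀ x ∈ D, ∀ d ∈ D, ¬ Commute x d → orderOf (x * d) = q := by
    intro x hx d hd hnc
    obtain ⟨z, hz, hzx, hxz⟩ := hpartner x₀ hx₀
    have h2 : orderOf (x₀ * z) = 2 := orderOf_eq_two_iff_mul.2
      ⟨fun hh => hzx (by rw [mul_eq_one_iff_eq_inv, inv_eq_self_of_involution (hinv z hz)] at hh; exact hh.symm),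
        by rw [← pow_two, hxz.mul_pow, pow_two, pow_two, hxx x₀ hx₀, hxx z hz, one_mul]⟩
    have e1 := hab x₀ hx₀ z hz hzx
    have e2 := hab x₀ hx₀ y₀ hy₀ fun hh => hxy₀ (hh ▸ Commute.refl _)
    have e3 := hab x hx d hd fun hh => hnc (hh ▸ Commute.refl _)
    have n2 := (hord2 x₀ hx₀ y₀ hy₀ hxy₀).2
    have n3 := (hord2 x hx d hd hnc).2
    omega
  have hsq : ∀ x ∈ D, ∀ d ∈ D, Commute x d → (x * d) ^ 2 = 1 := fun x hx d hd hc => by
    rw [hc.mul_pow, pow_two, pow_two, hxx x hx, hxx d hd, one_mul]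
  have horders : ∀ x ∈ D, ∀ d ∈ D, orderOf (x * d) ∣ 2 ∨ orderOf (x * d) = q := fun x hx d hd => by
    by_cases hc : Commute x d
    · exact Or.inl (orderOf_dvd_of_pow_eq_one (hsq x hx d hd hc))
    · exact Or.inr (hordq x hx d hd hc)
  have hq3 : 3 ≤ q := by
    have := orderOf_pos (x₀ * y₀)
    have := hord2 x₀ hx₀ y₀ hy₀ hxy₀
    omega
  have hpow : ∀ i : ℕ, orderOf ((x₀ * y₀) ^ (2 * i)) ∣ 2 ∨ orderOf ((x₀ * y₀) ^ (2 * i)) = q := by
    intro i
    have h1 := conj_by_zpow (hinv x₀ hx₀) (hinv y₀ hy₀) (i : ℤ) 0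
    rw [zpow_zero, one_mul, add_zero, zpow_natCast] at h1
    have h2 := horders _ (hcl ((x₀ * y₀) ^ i) x₀ hx₀) x₀ hx₀
    rw [h1, mul_assoc, hxx x₀ hx₀, mul_one,
      show 2 * (i : ℤ) = ((2 * i : ℕ) : ℤ) by push_cast; ring, zpow_natCast] at h2
    exact h2
  -- the second order is odd
  have hodd : Odd q := by
    by_contra hev
    obtain ⟨m, hm⟩ := Nat.not_odd_iff_even.1 hev
    have hm2 : orderOf ((x₀ * y₀) ^ 2) = m := by
      rw [orderOf_pow' _ two_ne_zero, ← hq, Nat.gcd_eq_right (even_iff_two_dvd.1 ⟨m, hm⟩)]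
      omega
    have h4 : q = 4 := by
      have h1 := hpow 1
      rw [mul_one, hm2] at h1
      rcases h1 with h1 | h1
      · have := Nat.le_of_dvd (by norm_num) h1
        omega
      · omega
    have : Fact (Nat.Prime 2) := ⟨Nat.prime_two⟩
    have hP : IsPGroup 2 (Subgroup.closure D) := by
      refine isPGroup_closure_of_pairwise hcl fun x hx d hd => ?_
      rcases horders x hx d hd with h1 | h1
      · rcases (Nat.dvd_prime Nat.prime_two).1 h1 with h2 | h2
        · exact isPGroup_two_closure_pair (k := 0) (hinv x hx) (hinv d hd) (by rw [h2]; rfl)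
        · exact isPGroup_two_closure_pair (k := 1) (hinv x hx) (hinv d hd) (by rw [h2]; rfl)
      · exact isPGroup_two_closure_pair (k := 2) (hinv x hx) (hinv d hd) (by rw [h1, h4]; rfl)
    have := hP.isNilpotent
    have hbot : Subgroup.closure D = ⊥ := hsol _ (by rw [hgen]; infer_instance) inferInstance
    exact ne_one_of_involution (hinv x₀ hx₀) (Subgroup.mem_bot.1 (hbot ▸ Subgroup.subset_closure hx₀))
  have hprime : q.Prime := by
    obtain ⟨d, hd, hdq⟩ := Nat.exists_prime_and_dvd (show q ≠ 1 by omega)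
    have hd2 : d ≠ 2 := fun hh => (Nat.not_even_iff_odd.2 hodd) (even_iff_two_dvd.2 (hh ▸ hdq))
    have ho : orderOf ((x₀ * y₀) ^ (2 * (q / d))) = d := by
      rw [mul_comm, pow_mul, Nat.Coprime.orderOf_pow]
      · rw [orderOf_pow' _ (Nat.div_pos (Nat.le_of_dvd (by omega) hdq) hd.pos).ne', ← hq,
          Nat.gcd_eq_right (Nat.div_dvd_of_dvd hdq), Nat.div_div_self hdq (by omega)]
      · rw [orderOf_pow' _ (Nat.div_pos (Nat.le_of_dvd (by omega) hdq) hd.pos).ne', ← hq,
          Nat.gcd_eq_right (Nat.div_dvd_of_dvd hdq), Nat.div_div_self hdq (by omega)]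
        exact (Nat.coprime_primes hd Nat.prime_two).2 hd2
    have h1 := hpow (q / d)
    rw [ho] at h1
    rcases h1 with h1 | h1
    · exact absurd ((Nat.prime_dvd_prime_iff_eq hd Nat.prime_two).1 h1) hd2
    · exact h1 ▸ hd
  intro x hx d hd
  by_cases hc : Commute x d
  · exact Or.inl (hsq x hx d hd hc)
  right
  by_cases hq3' : q = 3
  · rw [← hq3', ← hordq x hx d hd hc]
    exact pow_orderOf_eq_one _
  exfalso
  have h5 : 5 ≤ q := by
    obtain ⟨m, hm⟩ := hodd
    omega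
  have hT : Top q D :=
    { base :=
        { prime := hprime
          odd := hodd
          inv := hinv
          conj := hcl
          ord := fun x hx d hd => (em (Commute x d)).imp id (hordq x hx d hd) }
      five := h5
      gen := hgen
      cls := hcls
      sol := hsol
      partner := hpartner
      noncentral := hncent
      nonempty := ⟨x₀, hx₀⟩
      transC := htransC }
  by_cases hone : ∃ x ∈ D, ∀ u ∈ D, ∀ v ∈ D, Commute x u → Commute x v → Commute u v
  · obtain ⟨x₁, hx₁, hone⟩ := hone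
    refine hT.case_one fun x hx u hu v hv hxu hxv => ?_
    obtain ⟨g, rfl⟩ := hcls x₁ hx₁ x hx
    have htr : ∀ w : G, Commute (g * x₁ * g⁻¹) w → Commute x₁ (g⁻¹ * w * g⁻¹⁻¹) := fun w hw => by
      have := commute_conj g⁻¹ hw
      convert this using 1
      group
    have := commute_conj g (hone _ (hcl g⁻¹ u hu) _ (hcl g⁻¹ v hv) (htr u hxu) (htr v hxv))
    convert this using 1 <;> group
  · push Not at hone
    refine hT.case_two fun x hx z hz hzx hxz => ?_
    obtain ⟨u, hu, v, hv, hxu, hxv, huv⟩ := hone x hx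
    have hux : u ≠ x := fun hh => huv (hh ▸ hxv)
    have hvx : v ≠ x := fun hh => huv (hh ▸ hxu.symm)
    obtain ⟨g, hg, hgu⟩ := htransC x hx u hu z hz hux hzx hxu hxz
    have hgx : g * x * g⁻¹ = x := by rw [hg.eq, mul_inv_cancel_right]
    refine ⟨g * v * g⁻¹, hcl g v hv, fun hh => hvx ?_, ?_, fun hh => huv ?_⟩
    · exact (MulAut.conj g).injective (hh.trans hgx.symm)
    · have := commute_conj g hxv
      rwa [hgx] at this
    · rw [← hgu] at hh
      exact (Commute.conj_iff g).1 hh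

end CfsgLib.RankThreeInv
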